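import Cfsg.Agent.Lib.Sporadic.Fi23Data.Fi23Fast

/-!
# The fast rows agree with the table

Machine-generated data and the kernel checks on it.
-/

set_option maxRecDepth 100000

namespace CfsgLib.Sporadic.CosetCert.Fi23Data

theorem table_fast0_0 : table.agreeL 0 fast0 0 8000 = true := by decide +kernel
theorem table_fast0_1 : table.agreeL 0 fast0 8000 8000 = true := by decide +kernel
theorem table_fast0_2 : table.agreeL 0 fast0 16000 8000 = true := by decide +kernel
theorem table_fast0_3 : table.agreeL 0 fast0 24000 7671 = true := by decide +kernel
theorem table_fast1_0 : table.agreeL 1 fast1 0 8000 = true := by decide +kernel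
theorem table_fast1_1 : table.agreeL 1 fast1 8000 8000 = true := by decide +kernel
theorem table_fast1_2 : table.agreeL 1 fast1 16000 8000 = true := by decide +kernel
theorem table_fast1_3 : table.agreeL 1 fast1 24000 7671 = true := by decide +kernel
theorem table_fast2_0 : table.agreeL 2 fast2 0 8000 = true := by decide +kernel
theorem table_fast2_1 : table.agreeL 2 fast2 8000 8000 = true := by decide +kernel
theorem table_fast2_2 : table.agreeL 2 fast2 16000 8000 = true := by decide +kernel
theorem table_fast2_3 : table.agreeL 2 fast2 24000 7671 = true := by decide +kernel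
theorem table_fast3_0 : table.agreeL 3 fast3 0 8000 = true := by decide +kernel
theorem table_fast3_1 : table.agreeL 3 fast3 8000 8000 = true := by decide +kernel
theorem table_fast3_2 : table.agreeL 3 fast3 16000 8000 = true := by decide +kernel
theorem table_fast3_3 : table.agreeL 3 fast3 24000 7671 = true := by decide +kernel
theorem table_fast4_0 : table.agreeL 4 fast4 0 8000 = true := by decide +kernel
theorem table_fast4_1 : table.agreeL 4 fast4 8000 8000 = true := by decide +kernel
theorem table_fast4_2 : table.agreeL 4 fast4 16000 8000 = true := by decide +kernel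
theorem table_fast4_3 : table.agreeL 4 fast4 24000 7671 = true := by decide +kernel
theorem table_fast5_0 : table.agreeL 5 fast5 0 8000 = true := by decide +kernel
theorem table_fast5_1 : table.agreeL 5 fast5 8000 8000 = true := by decide +kernel
theorem table_fast5_2 : table.agreeL 5 fast5 16000 8000 = true := by decide +kernel
theorem table_fast5_3 : table.agreeL 5 fast5 24000 7671 = true := by decide +kernel
theorem table_fast6_0 : table.agreeL 6 fast6 0 8000 = true := by decide +kernel
theorem table_fast6_1 : table.agreeL 6 fast6 8000 8000 = true := by decide +kernel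
theorem table_fast6_2 : table.agreeL 6 fast6 16000 8000 = true := by decide +kernel
theorem table_fast6_3 : table.agreeL 6 fast6 24000 7671 = true := by decide +kernel
theorem table_fast7_0 : table.agreeL 7 fast7 0 8000 = true := by decide +kernel
theorem table_fast7_1 : table.agreeL 7 fast7 8000 8000 = true := by decide +kernel
theorem table_fast7_2 : table.agreeL 7 fast7 16000 8000 = true := by decide +kernel
theorem table_fast7_3 : table.agreeL 7 fast7 24000 7671 = true := by decide +kernel
theorem table_fast8_0 : table.agreeL 8 fast8 0 8000 = true := by decide +kernel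
theorem table_fast8_1 : table.agreeL 8 fast8 8000 8000 = true := by decide +kernel
theorem table_fast8_2 : table.agreeL 8 fast8 16000 8000 = true := by decide +kernel
theorem table_fast8_3 : table.agreeL 8 fast8 24000 7671 = true := by decide +kernel
theorem table_fast9_0 : table.agreeL 9 fast9 0 8000 = true := by decide +kernel
theorem table_fast9_1 : table.agreeL 9 fast9 8000 8000 = true := by decide +kernel
theorem table_fast9_2 : table.agreeL 9 fast9 16000 8000 = true := by decide +kernel
theorem table_fast9_3 : table.agreeL 9 fast9 24000 7671 = true := by decide +kernel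

theorem table_fast : ∀ x < table.nl, ∀ u < table.N,
    table.img x u = fastRows.getD x id u ∧ fastRows.getD x id u < table.N := by
  intro x hx u hu
  change x < 10 at hx
  match x, hx with
  | 0, _ => exact (range_split (range_split (range_split (PTab.agreeL_spec table_fast0_0) (PTab.agreeL_spec table_fast0_1)) (PTab.agreeL_spec table_fast0_2)) (PTab.agreeL_spec table_fast0_3)) u (Nat.zero_le _) hu
  | 1, _ => exact (range_split (range_split (range_split (PTab.agreeL_spec table_fast1_0) (PTab.agreeL_spec table_fast1_1)) (PTab.agreeL_spec table_fast1_2)) (PTab.agreeL_spec table_fast1_3)) u (Nat.zero_le _) hu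
  | 2, _ => exact (range_split (range_split (range_split (PTab.agreeL_spec table_fast2_0) (PTab.agreeL_spec table_fast2_1)) (PTab.agreeL_spec table_fast2_2)) (PTab.agreeL_spec table_fast2_3)) u (Nat.zero_le _) hu
  | 3, _ => exact (range_split (range_split (range_split (PTab.agreeL_spec table_fast3_0) (PTab.agreeL_spec table_fast3_1)) (PTab.agreeL_spec table_fast3_2)) (PTab.agreeL_spec table_fast3_3)) u (Nat.zero_le _) hu
  | 4, _ => exact (range_split (range_split (range_split (PTab.agreeL_spec table_fast4_0) (PTab.agreeL_spec table_fast4_1)) (PTab.agreeL_spec table_fast4_2)) (PTab.agreeL_spec table_fast4_3)) u (Nat.zero_le _) hu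
  | 5, _ => exact (range_split (range_split (range_split (PTab.agreeL_spec table_fast5_0) (PTab.agreeL_spec table_fast5_1)) (PTab.agreeL_spec table_fast5_2)) (PTab.agreeL_spec table_fast5_3)) u (Nat.zero_le _) hu
  | 6, _ => exact (range_split (range_split (range_split (PTab.agreeL_spec table_fast6_0) (PTab.agreeL_spec table_fast6_1)) (PTab.agreeL_spec table_fast6_2)) (PTab.agreeL_spec table_fast6_3)) u (Nat.zero_le _) hu
  | 7, _ => exact (range_split (range_split (range_split (PTab.agreeL_spec table_fast7_0) (PTab.agreeL_spec table_fast7_1)) (PTab.agreeL_spec table_fast7_2)) (PTab.agreeL_spec table_fast7_3)) u (Nat.zero_le _) hu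
  | 8, _ => exact (range_split (range_split (range_split (PTab.agreeL_spec table_fast8_0) (PTab.agreeL_spec table_fast8_1)) (PTab.agreeL_spec table_fast8_2)) (PTab.agreeL_spec table_fast8_3)) u (Nat.zero_le _) hu
  | 9, _ => exact (range_split (range_split (range_split (PTab.agreeL_spec table_fast9_0) (PTab.agreeL_spec table_fast9_1)) (PTab.agreeL_spec table_fast9_2)) (PTab.agreeL_spec table_fast9_3)) u (Nat.zero_le _) hu
  | n + 10, h => exact absurd h (by omega)

theorem imgW_fast (L : List ℕ) (hL : L.all (fun x => Nat.blt x 10) = true) :
    ∀ u < table.N, table.imgW L u = PTab.runL (L.map fun x => fastRows.getD x id) u ∧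
      table.imgW L u < table.N :=
  PTab.imgW_eq_runL table_fast L fun x hx => by
    have h := List.all_eq_true.1 hL x hx
    rw [Nat.blt_eq] at h
    exact h

end CfsgLib.Sporadic.CosetCert.Fi23Data
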