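import Cfsg.Agent.Lib.Sporadic.Fi23Data.Fi23Periods

/-!
# The word (bcdefgh)^9 on the suborbit of size 3510

Machine-generated data and the kernel checks on it.
-/

set_option maxRecDepth 100000

namespace CfsgLib.Sporadic.CosetCert.Fi23Data

/-- The letters of `(b c d e f g h)^9`. -/
def wordE7 : ℕ × ℕ := (63, 0x123456812345681234568123456812345681234568123456812345681234568)

theorem wordE7_fix : forestH.fixClassL (List.replicate 9 prodE7) 1 0 31671 = true := by
  decide +kernel

theorem wordE7_unpack : PTab.unpack wordE7 = (List.replicate 9 prodE7Letters).flatten := by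
  decide +kernel

theorem wordE7_ok : ∀ u < table.N, forestH.cls u = 1 → table.run wordE7.1 wordE7.2 u = u := by
  intro u hu hc
  rw [PTab.run_eq_imgW, show (wordE7.1, wordE7.2) = wordE7 from rfl, wordE7_unpack]
  exact (PTab.imgW_pow prodE7_eq 9 u hu).trans
    (Forest.fixClassL_spec wordE7_fix u (Nat.zero_le _) hu hc)

end CfsgLib.Sporadic.CosetCert.Fi23Data
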