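import Cfsg.Agent.Lib.Sporadic.CosetCertGroup

/-!
# Coset enumeration certificate Fi23Data.certD4

Machine-generated data and the kernel checks on it.
-/

set_option maxRecDepth 100000

namespace CfsgLib.Sporadic.CosetCert.Fi23Data

/-- Coset enumeration certificate `f3f`: 8 cosets, 8 nodes, 32 facts. -/
noncomputable def certD4 : Cert where
  N := 8
  M := 8
  nl := 4
  nr := 10
  fuel := 1
  vb := 8
  rb := 6
  iv := 0x43210
  words := [(2, 0x0), (6, 0x10101), (4, 0x202), (4, 0x303), (2, 0x11), (6, 0x121212), (6, 0x131313), (2, 0x22), (4, 0x2323), (2, 0x33), (1, 0x0), (1, 0x1), (1, 0x2)]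
  slots := (.leaf 0x1d06801df07781c000701db066415a060001705500d8065410000481100244116050000e034c14d0330080002808f042404b0300005001c04802180400010043000800100)
  just := (.leaf 0x2060cc0418002080830003101060003200000000000000000008280829000101056020a0002400000000008180841000102036000000000040c000880000000001020108200020404c0408001480008002b0000000000204020640000000000810080900010002600000000004040418800000000000101016000000000000000000000818030100000820000000000400000c8000000000000000000000001840000002c800000051)
  parent := (.leaf 0x2201b01200d00b007004000)

theorem certD4_keys0 : certD4.keysOK 0 40 = true := by decide +kernel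
theorem certD4_closed0 : certD4.closedFrom 33 0 8 = true := by decide +kernel

theorem certD4_valid : certD4.Valid :=
  valid_of
    (fun k hk => (keysOK_spec certD4_keys0) k (Nat.zero_le _) hk)
    (fun u hu => ⟨33, (closedFrom_spec certD4_closed0) u (Nat.zero_le _) hu⟩)
    (by decide +kernel) (by decide +kernel)

end CfsgLib.Sporadic.CosetCert.Fi23Data
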