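import Cfsg.Agent.Lib.Sporadic.CosetCertGroup

/-!
# Coset enumeration certificate Fi23Data.certE6

Machine-generated data and the kernel checks on it.
-/

set_option maxRecDepth 100000

namespace CfsgLib.Sporadic.CosetCert.Fi23Data

/-- Coset enumeration certificate `f3d`: 27 cosets, 27 nodes, 162 facts. -/
noncomputable def certE6 : Cert where
  N := 27
  M := 27
  nl := 6
  nr := 21
  fuel := 1
  vb := 8
  rb := 8
  iv := 0x6543210
  words := [(2, 0x0), (6, 0x10101), (4, 0x202), (4, 0x303), (4, 0x404), (4, 0x505), (2, 0x11), (6, 0x121212), (4, 0x1313), (4, 0x1414), (4, 0x1515), (2, 0x22), (6, 0x232323), (4, 0x2424), (6, 0x252525), (2, 0x33), (6, 0x343434), (4, 0x3535), (2, 0x44), (4, 0x4545), (2, 0x55), (1, 0x1), (1, 0x2), (1, 0x3), (1, 0x4), (1, 0x5)]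
  slots := (.leaf 0xa21a9d19a11aa01a9f1a9e1a00009b199c1a97189a1999199819000095189418961991179318921800008a158f178e1790188c168b17000083138816871686168d17841400008917811580157f157d137e15000077127b147a14791478148516000082167513741371117c157212000076146f126e126c106d12731300006a116911650f7013681166100000631062105f0c6b12600d671100005d0f5b0e64115a0f590f580c0000560e5c0f550e540e530e520b0000500d4f0d4c0a4e0d61104d0d00004a0c480b5e10470c460a570f0000440b490c430b420b4109510e00003f0a3d094b0d3b08450c3c0a000039093e0a38093607400b370900002f06330732083a0a310830080000290434082c0535092b072a0700002e082304270626062506240600001d0321052d0720051f051e0500002807220618031b041a04190400001c05160317041302150314030000110210020f0212030d010e0200000b010a01090108010c0207000000050004000300020001000601)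
  just := (.leaf 0x1190113200020832c04640040808c8006901190009202320008400000000008c0088900000000000020630c04600030808c00041011800032000000000045c0438808b808690000000000002042ec045c001c808b8001100000000000020a2ac0454004c808a80089000000000022a0014404540014800000000000105136022600264044c00448089800710001011760226000a400000000000000000011301092022602104044c041c80008089b011300012000000000000414498089000990112001120224001c4044800288000800b300000000000000000004440434808880861000102116000000000044400088000000000000000000220021a40440043080008108301100007200020026c00000000008780889010f011020002061ec00000000008780041010f00032000000000043004448086008810001030c60000000000430002080008008b0000000000218020a404300410800000000010c0102202180202400040031800000000010b010520002081ec042c040c808580811010b0101200020016c00000000008500889010a0110200020614c04280030800080883010a00032000000000042804288085008490000000000214020e4000404298000000000000000000212021440004103180848084101090107200020212c000000000000000000108010e20210021a400000000000081043000000000021000044000000000083808710001040a6020e021840004081d800000000010700022000000000000414198083000990106001120000000000418002880830002900000000000020a08c000410218082000890000000000208001440410001480000000000000000000020808c041000408082000690104000920208000840000000000008281b0103001320002060ec040c003880818005101030005200000000000000000000000000000103036020600184040c0020808180019000000000000000000040804348000000000001020260204000e4040800088000000000101010a2020202124040404208000000000001010160202000240000000000800082901000104202000206404000408800000000000100006000000000000000648000000c10000001720000002c400000054800000000)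
  parent := (.leaf 0xb40ac0a409908b08708407a07306d05805504e04a04804103b03403002202101b019011009001000)

theorem certE6_keys0 : certE6.keysOK 0 189 = true := by decide +kernel
theorem certE6_closed0 : certE6.closedFrom 163 0 27 = true := by decide +kernel

theorem certE6_valid : certE6.Valid :=
  valid_of
    (fun k hk => (keysOK_spec certE6_keys0) k (Nat.zero_le _) hk)
    (fun u hu => ⟨163, (closedFrom_spec certE6_closed0) u (Nat.zero_le _) hu⟩)
    (by decide +kernel) (by decide +kernel)

end CfsgLib.Sporadic.CosetCert.Fi23Data
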