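import Cfsg.Agent.Lib.Sporadic.Fi23Data.Fi23CertHCheck9
import Cfsg.Agent.Lib.Sporadic.Fi23Data.Fi23CertHData

/-!
# Coset enumeration certificate Fi23Data.certH, checks 11

Machine-generated data and the kernel checks on it.
-/

set_option maxRecDepth 100000

namespace CfsgLib.Sporadic.CosetCert.Fi23Data

theorem certH_keys88 : certH.keysOK 352000 4000 = true := by decide +kernel
theorem certH_keys89 : certH.keysOK 356000 4000 = true := by decide +kernel
theorem certH_keys90 : certH.keysOK 360000 4000 = true := by decide +kernel
theorem certH_keys91 : certH.keysOK 364000 4000 = true := by decide +kernel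
theorem certH_keys92 : certH.keysOK 368000 4000 = true := by decide +kernel
theorem certH_keys93 : certH.keysOK 372000 4000 = true := by decide +kernel
theorem certH_keys94 : certH.keysOK 376000 4000 = true := by decide +kernel
theorem certH_keys95 : certH.keysOK 380000 4000 = true := by decide +kernel

end CfsgLib.Sporadic.CosetCert.Fi23Data
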