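import Cfsg.Agent.Lib.Sporadic.Fi23Data.Fi23CertHCheck10
import Cfsg.Agent.Lib.Sporadic.Fi23Data.Fi23CertHData

/-!
# Coset enumeration certificate Fi23Data.certH, checks 12

Machine-generated data and the kernel checks on it.
-/

set_option maxRecDepth 100000

namespace CfsgLib.Sporadic.CosetCert.Fi23Data

theorem certH_keys96 : certH.keysOK 384000 4000 = true := by decide +kernel
theorem certH_keys97 : certH.keysOK 388000 4000 = true := by decide +kernel
theorem certH_keys98 : certH.keysOK 392000 4000 = true := by decide +kernel
theorem certH_keys99 : certH.keysOK 396000 4000 = true := by decide +kernel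
theorem certH_keys100 : certH.keysOK 400000 4000 = true := by decide +kernel
theorem certH_keys101 : certH.keysOK 404000 4000 = true := by decide +kernel
theorem certH_keys102 : certH.keysOK 408000 4000 = true := by decide +kernel
theorem certH_keys103 : certH.keysOK 412000 4000 = true := by decide +kernel

end CfsgLib.Sporadic.CosetCert.Fi23Data
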