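import Cfsg.Agent.Lib.Sporadic.Fi23Data.Fi23CertHCheck11
import Cfsg.Agent.Lib.Sporadic.Fi23Data.Fi23CertHData

/-!
# Coset enumeration certificate Fi23Data.certH, checks 13

Machine-generated data and the kernel checks on it.
-/

set_option maxRecDepth 100000

namespace CfsgLib.Sporadic.CosetCert.Fi23Data

theorem certH_keys104 : certH.keysOK 416000 4000 = true := by decide +kernel
theorem certH_keys105 : certH.keysOK 420000 4000 = true := by decide +kernel
theorem certH_keys106 : certH.keysOK 424000 4000 = true := by decide +kernel
theorem certH_keys107 : certH.keysOK 428000 4000 = true := by decide +kernel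
theorem certH_keys108 : certH.keysOK 432000 4000 = true := by decide +kernel
theorem certH_keys109 : certH.keysOK 436000 4000 = true := by decide +kernel
theorem certH_keys110 : certH.keysOK 440000 4000 = true := by decide +kernel
theorem certH_keys111 : certH.keysOK 444000 4000 = true := by decide +kernel

end CfsgLib.Sporadic.CosetCert.Fi23Data
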