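import Cfsg.Agent.Lib.Sporadic.Fi23Data.Fi23CertHCheck12
import Cfsg.Agent.Lib.Sporadic.Fi23Data.Fi23CertHData

/-!
# Coset enumeration certificate Fi23Data.certH, checks 14

Machine-generated data and the kernel checks on it.
-/

set_option maxRecDepth 100000

namespace CfsgLib.Sporadic.CosetCert.Fi23Data

theorem certH_keys112 : certH.keysOK 448000 4000 = true := by decide +kernel
theorem certH_keys113 : certH.keysOK 452000 4000 = true := by decide +kernel
theorem certH_keys114 : certH.keysOK 456000 4000 = true := by decide +kernel
theorem certH_keys115 : certH.keysOK 460000 4000 = true := by decide +kernel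
theorem certH_keys116 : certH.keysOK 464000 4000 = true := by decide +kernel
theorem certH_keys117 : certH.keysOK 468000 4000 = true := by decide +kernel
theorem certH_keys118 : certH.keysOK 472000 4000 = true := by decide +kernel
theorem certH_keys119 : certH.keysOK 476000 4000 = true := by decide +kernel

end CfsgLib.Sporadic.CosetCert.Fi23Data
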