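import Cfsg.Agent.Lib.Sporadic.Fi23Data.Fi23CertHCheck13
import Cfsg.Agent.Lib.Sporadic.Fi23Data.Fi23CertHData

/-!
# Coset enumeration certificate Fi23Data.certH, checks 15

Machine-generated data and the kernel checks on it.
-/

set_option maxRecDepth 100000

namespace CfsgLib.Sporadic.CosetCert.Fi23Data

theorem certH_keys120 : certH.keysOK 480000 4000 = true := by decide +kernel
theorem certH_keys121 : certH.keysOK 484000 4000 = true := by decide +kernel
theorem certH_keys122 : certH.keysOK 488000 4000 = true := by decide +kernel
theorem certH_keys123 : certH.keysOK 492000 4000 = true := by decide +kernel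
theorem certH_keys124 : certH.keysOK 496000 4000 = true := by decide +kernel
theorem certH_keys125 : certH.keysOK 500000 4000 = true := by decide +kernel
theorem certH_keys126 : certH.keysOK 504000 4000 = true := by decide +kernel
theorem certH_keys127 : certH.keysOK 508000 4000 = true := by decide +kernel

end CfsgLib.Sporadic.CosetCert.Fi23Data
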