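import Cfsg.Agent.Lib.Sporadic.Fi23Data.Fi23CertHCheck14
import Cfsg.Agent.Lib.Sporadic.Fi23Data.Fi23CertHData

/-!
# Coset enumeration certificate Fi23Data.certH, checks 16

Machine-generated data and the kernel checks on it.
-/

set_option maxRecDepth 100000

namespace CfsgLib.Sporadic.CosetCert.Fi23Data

theorem certH_keys128 : certH.keysOK 512000 4000 = true := by decide +kernel
theorem certH_keys129 : certH.keysOK 516000 4000 = true := by decide +kernel
theorem certH_keys130 : certH.keysOK 520000 4000 = true := by decide +kernel
theorem certH_keys131 : certH.keysOK 524000 4000 = true := by decide +kernel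
theorem certH_keys132 : certH.keysOK 528000 4000 = true := by decide +kernel
theorem certH_keys133 : certH.keysOK 532000 4000 = true := by decide +kernel
theorem certH_keys134 : certH.keysOK 536000 4000 = true := by decide +kernel
theorem certH_keys135 : certH.keysOK 540000 4000 = true := by decide +kernel

end CfsgLib.Sporadic.CosetCert.Fi23Data
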