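import Cfsg.Agent.Lib.Sporadic.Fi23Data.Fi23CertHCheck15
import Cfsg.Agent.Lib.Sporadic.Fi23Data.Fi23CertHData

/-!
# Coset enumeration certificate Fi23Data.certH, checks 17

Machine-generated data and the kernel checks on it.
-/

set_option maxRecDepth 100000

namespace CfsgLib.Sporadic.CosetCert.Fi23Data

theorem certH_keys136 : certH.keysOK 544000 4000 = true := by decide +kernel
theorem certH_keys137 : certH.keysOK 548000 4000 = true := by decide +kernel
theorem certH_keys138 : certH.keysOK 552000 4000 = true := by decide +kernel
theorem certH_keys139 : certH.keysOK 556000 4000 = true := by decide +kernel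
theorem certH_keys140 : certH.keysOK 560000 4000 = true := by decide +kernel
theorem certH_keys141 : certH.keysOK 564000 4000 = true := by decide +kernel
theorem certH_keys142 : certH.keysOK 568000 4000 = true := by decide +kernel
theorem certH_keys143 : certH.keysOK 572000 2728 = true := by decide +kernel

end CfsgLib.Sporadic.CosetCert.Fi23Data
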