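import Cfsg.Agent.Lib.Sporadic.Fi23Data.Fi23CertHCheck16
import Cfsg.Agent.Lib.Sporadic.Fi23Data.Fi23CertHData

/-!
# Coset enumeration certificate Fi23Data.certH, checks 18

Machine-generated data and the kernel checks on it.
-/

set_option maxRecDepth 100000

namespace CfsgLib.Sporadic.CosetCert.Fi23Data

theorem certH_closed0 : certH.closedFrom 400673 0 2000 = true := by decide +kernel
theorem certH_closed1 : certH.closedFrom 400673 2000 2000 = true := by decide +kernel
theorem certH_closed2 : certH.closedFrom 400673 4000 2000 = true := by decide +kernel
theorem certH_closed3 : certH.closedFrom 400673 6000 2000 = true := by decide +kernel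
theorem certH_closed4 : certH.closedFrom 400673 8000 2000 = true := by decide +kernel
theorem certH_closed5 : certH.closedFrom 400673 10000 2000 = true := by decide +kernel
theorem certH_closed6 : certH.closedFrom 400673 12000 2000 = true := by decide +kernel
theorem certH_closed7 : certH.closedFrom 400673 14000 2000 = true := by decide +kernel

end CfsgLib.Sporadic.CosetCert.Fi23Data
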