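import Cfsg.Agent.Lib.Sporadic.Fi23Data.Fi23CertHCheck17
import Cfsg.Agent.Lib.Sporadic.Fi23Data.Fi23CertHData

/-!
# Coset enumeration certificate Fi23Data.certH, checks 19

Machine-generated data and the kernel checks on it.
-/

set_option maxRecDepth 100000

namespace CfsgLib.Sporadic.CosetCert.Fi23Data

theorem certH_closed8 : certH.closedFrom 400673 16000 2000 = true := by decide +kernel
theorem certH_closed9 : certH.closedFrom 400673 18000 2000 = true := by decide +kernel
theorem certH_closed10 : certH.closedFrom 400673 20000 2000 = true := by decide +kernel
theorem certH_closed11 : certH.closedFrom 400673 22000 2000 = true := by decide +kernel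
theorem certH_closed12 : certH.closedFrom 400673 24000 2000 = true := by decide +kernel
theorem certH_closed13 : certH.closedFrom 400673 26000 2000 = true := by decide +kernel
theorem certH_closed14 : certH.closedFrom 400673 28000 2000 = true := by decide +kernel
theorem certH_closed15 : certH.closedFrom 400673 30000 1671 = true := by decide +kernel

end CfsgLib.Sporadic.CosetCert.Fi23Data
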