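import Cfsg.Agent.Lib.Sporadic.Fi23Data.Fi23CertHCheck0
import Cfsg.Agent.Lib.Sporadic.Fi23Data.Fi23CertHData

/-!
# Coset enumeration certificate Fi23Data.certH, checks 2

Machine-generated data and the kernel checks on it.
-/

set_option maxRecDepth 100000

namespace CfsgLib.Sporadic.CosetCert.Fi23Data

theorem certH_keys16 : certH.keysOK 64000 4000 = true := by decide +kernel
theorem certH_keys17 : certH.keysOK 68000 4000 = true := by decide +kernel
theorem certH_keys18 : certH.keysOK 72000 4000 = true := by decide +kernel
theorem certH_keys19 : certH.keysOK 76000 4000 = true := by decide +kernel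
theorem certH_keys20 : certH.keysOK 80000 4000 = true := by decide +kernel
theorem certH_keys21 : certH.keysOK 84000 4000 = true := by decide +kernel
theorem certH_keys22 : certH.keysOK 88000 4000 = true := by decide +kernel
theorem certH_keys23 : certH.keysOK 92000 4000 = true := by decide +kernel

end CfsgLib.Sporadic.CosetCert.Fi23Data
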