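import Cfsg.Agent.Lib.Sporadic.Fi23Data.Fi23CertHCheck1
import Cfsg.Agent.Lib.Sporadic.Fi23Data.Fi23CertHData

/-!
# Coset enumeration certificate Fi23Data.certH, checks 3

Machine-generated data and the kernel checks on it.
-/

set_option maxRecDepth 100000

namespace CfsgLib.Sporadic.CosetCert.Fi23Data

theorem certH_keys24 : certH.keysOK 96000 4000 = true := by decide +kernel
theorem certH_keys25 : certH.keysOK 100000 4000 = true := by decide +kernel
theorem certH_keys26 : certH.keysOK 104000 4000 = true := by decide +kernel
theorem certH_keys27 : certH.keysOK 108000 4000 = true := by decide +kernel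
theorem certH_keys28 : certH.keysOK 112000 4000 = true := by decide +kernel
theorem certH_keys29 : certH.keysOK 116000 4000 = true := by decide +kernel
theorem certH_keys30 : certH.keysOK 120000 4000 = true := by decide +kernel
theorem certH_keys31 : certH.keysOK 124000 4000 = true := by decide +kernel

end CfsgLib.Sporadic.CosetCert.Fi23Data
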