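import Cfsg.Agent.Lib.Sporadic.Fi23Data.Fi23CertHCheck2
import Cfsg.Agent.Lib.Sporadic.Fi23Data.Fi23CertHData

/-!
# Coset enumeration certificate Fi23Data.certH, checks 4

Machine-generated data and the kernel checks on it.
-/

set_option maxRecDepth 100000

namespace CfsgLib.Sporadic.CosetCert.Fi23Data

theorem certH_keys32 : certH.keysOK 128000 4000 = true := by decide +kernel
theorem certH_keys33 : certH.keysOK 132000 4000 = true := by decide +kernel
theorem certH_keys34 : certH.keysOK 136000 4000 = true := by decide +kernel
theorem certH_keys35 : certH.keysOK 140000 4000 = true := by decide +kernel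
theorem certH_keys36 : certH.keysOK 144000 4000 = true := by decide +kernel
theorem certH_keys37 : certH.keysOK 148000 4000 = true := by decide +kernel
theorem certH_keys38 : certH.keysOK 152000 4000 = true := by decide +kernel
theorem certH_keys39 : certH.keysOK 156000 4000 = true := by decide +kernel

end CfsgLib.Sporadic.CosetCert.Fi23Data
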