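import Cfsg.Agent.Lib.Sporadic.Fi23Data.Fi23CertHCheck3
import Cfsg.Agent.Lib.Sporadic.Fi23Data.Fi23CertHData

/-!
# Coset enumeration certificate Fi23Data.certH, checks 5

Machine-generated data and the kernel checks on it.
-/

set_option maxRecDepth 100000

namespace CfsgLib.Sporadic.CosetCert.Fi23Data

theorem certH_keys40 : certH.keysOK 160000 4000 = true := by decide +kernel
theorem certH_keys41 : certH.keysOK 164000 4000 = true := by decide +kernel
theorem certH_keys42 : certH.keysOK 168000 4000 = true := by decide +kernel
theorem certH_keys43 : certH.keysOK 172000 4000 = true := by decide +kernel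
theorem certH_keys44 : certH.keysOK 176000 4000 = true := by decide +kernel
theorem certH_keys45 : certH.keysOK 180000 4000 = true := by decide +kernel
theorem certH_keys46 : certH.keysOK 184000 4000 = true := by decide +kernel
theorem certH_keys47 : certH.keysOK 188000 4000 = true := by decide +kernel

end CfsgLib.Sporadic.CosetCert.Fi23Data
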