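import Cfsg.Agent.Lib.Sporadic.Fi23Data.Fi23CertHCheck4
import Cfsg.Agent.Lib.Sporadic.Fi23Data.Fi23CertHData

/-!
# Coset enumeration certificate Fi23Data.certH, checks 6

Machine-generated data and the kernel checks on it.
-/

set_option maxRecDepth 100000

namespace CfsgLib.Sporadic.CosetCert.Fi23Data

theorem certH_keys48 : certH.keysOK 192000 4000 = true := by decide +kernel
theorem certH_keys49 : certH.keysOK 196000 4000 = true := by decide +kernel
theorem certH_keys50 : certH.keysOK 200000 4000 = true := by decide +kernel
theorem certH_keys51 : certH.keysOK 204000 4000 = true := by decide +kernel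
theorem certH_keys52 : certH.keysOK 208000 4000 = true := by decide +kernel
theorem certH_keys53 : certH.keysOK 212000 4000 = true := by decide +kernel
theorem certH_keys54 : certH.keysOK 216000 4000 = true := by decide +kernel
theorem certH_keys55 : certH.keysOK 220000 4000 = true := by decide +kernel

end CfsgLib.Sporadic.CosetCert.Fi23Data
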