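import Cfsg.Agent.Lib.Sporadic.Fi23Data.Fi23CertHCheck5
import Cfsg.Agent.Lib.Sporadic.Fi23Data.Fi23CertHData

/-!
# Coset enumeration certificate Fi23Data.certH, checks 7

Machine-generated data and the kernel checks on it.
-/

set_option maxRecDepth 100000

namespace CfsgLib.Sporadic.CosetCert.Fi23Data

theorem certH_keys56 : certH.keysOK 224000 4000 = true := by decide +kernel
theorem certH_keys57 : certH.keysOK 228000 4000 = true := by decide +kernel
theorem certH_keys58 : certH.keysOK 232000 4000 = true := by decide +kernel
theorem certH_keys59 : certH.keysOK 236000 4000 = true := by decide +kernel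
theorem certH_keys60 : certH.keysOK 240000 4000 = true := by decide +kernel
theorem certH_keys61 : certH.keysOK 244000 4000 = true := by decide +kernel
theorem certH_keys62 : certH.keysOK 248000 4000 = true := by decide +kernel
theorem certH_keys63 : certH.keysOK 252000 4000 = true := by decide +kernel

end CfsgLib.Sporadic.CosetCert.Fi23Data
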