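import Cfsg.Agent.Lib.Sporadic.Fi23Data.Fi23CertHCheck6
import Cfsg.Agent.Lib.Sporadic.Fi23Data.Fi23CertHData

/-!
# Coset enumeration certificate Fi23Data.certH, checks 8

Machine-generated data and the kernel checks on it.
-/

set_option maxRecDepth 100000

namespace CfsgLib.Sporadic.CosetCert.Fi23Data

theorem certH_keys64 : certH.keysOK 256000 4000 = true := by decide +kernel
theorem certH_keys65 : certH.keysOK 260000 4000 = true := by decide +kernel
theorem certH_keys66 : certH.keysOK 264000 4000 = true := by decide +kernel
theorem certH_keys67 : certH.keysOK 268000 4000 = true := by decide +kernel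
theorem certH_keys68 : certH.keysOK 272000 4000 = true := by decide +kernel
theorem certH_keys69 : certH.keysOK 276000 4000 = true := by decide +kernel
theorem certH_keys70 : certH.keysOK 280000 4000 = true := by decide +kernel
theorem certH_keys71 : certH.keysOK 284000 4000 = true := by decide +kernel

end CfsgLib.Sporadic.CosetCert.Fi23Data
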