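import Cfsg.Agent.Lib.Sporadic.Fi23Data.Fi23CertHCheck7
import Cfsg.Agent.Lib.Sporadic.Fi23Data.Fi23CertHData

/-!
# Coset enumeration certificate Fi23Data.certH, checks 9

Machine-generated data and the kernel checks on it.
-/

set_option maxRecDepth 100000

namespace CfsgLib.Sporadic.CosetCert.Fi23Data

theorem certH_keys72 : certH.keysOK 288000 4000 = true := by decide +kernel
theorem certH_keys73 : certH.keysOK 292000 4000 = true := by decide +kernel
theorem certH_keys74 : certH.keysOK 296000 4000 = true := by decide +kernel
theorem certH_keys75 : certH.keysOK 300000 4000 = true := by decide +kernel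
theorem certH_keys76 : certH.keysOK 304000 4000 = true := by decide +kernel
theorem certH_keys77 : certH.keysOK 308000 4000 = true := by decide +kernel
theorem certH_keys78 : certH.keysOK 312000 4000 = true := by decide +kernel
theorem certH_keys79 : certH.keysOK 316000 4000 = true := by decide +kernel

end CfsgLib.Sporadic.CosetCert.Fi23Data
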