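import Cfsg.Agent.Lib.Sporadic.Fi23Data.Fi23CertHCheck0
import Cfsg.Agent.Lib.Sporadic.Fi23Data.Fi23CertHCheck1
import Cfsg.Agent.Lib.Sporadic.Fi23Data.Fi23CertHCheck2
import Cfsg.Agent.Lib.Sporadic.Fi23Data.Fi23CertHCheck3
import Cfsg.Agent.Lib.Sporadic.Fi23Data.Fi23CertHCheck4
import Cfsg.Agent.Lib.Sporadic.Fi23Data.Fi23CertHCheck5
import Cfsg.Agent.Lib.Sporadic.Fi23Data.Fi23CertHCheck6
import Cfsg.Agent.Lib.Sporadic.Fi23Data.Fi23CertHCheck7
import Cfsg.Agent.Lib.Sporadic.Fi23Data.Fi23CertHCheck8
import Cfsg.Agent.Lib.Sporadic.Fi23Data.Fi23CertHCheck9
import Cfsg.Agent.Lib.Sporadic.Fi23Data.Fi23CertHCheck10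
import Cfsg.Agent.Lib.Sporadic.Fi23Data.Fi23CertHCheck11
import Cfsg.Agent.Lib.Sporadic.Fi23Data.Fi23CertHCheck12
import Cfsg.Agent.Lib.Sporadic.Fi23Data.Fi23CertHCheck13
import Cfsg.Agent.Lib.Sporadic.Fi23Data.Fi23CertHCheck14
import Cfsg.Agent.Lib.Sporadic.Fi23Data.Fi23CertHCheck15
import Cfsg.Agent.Lib.Sporadic.Fi23Data.Fi23CertHCheck16
import Cfsg.Agent.Lib.Sporadic.Fi23Data.Fi23CertHCheck17
import Cfsg.Agent.Lib.Sporadic.Fi23Data.Fi23CertHCheck18
import Cfsg.Agent.Lib.Sporadic.Fi23Data.Fi23CertHCheck19

/-!
# Coset enumeration certificate Fi23Data.certH

Machine-generated data and the kernel checks on it.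
-/

set_option maxRecDepth 100000

namespace CfsgLib.Sporadic.CosetCert.Fi23Data


theorem certH_valid : certH.Valid :=
  valid_of
    (fun k hk => (range_split (range_split (range_split (range_split (range_split (range_split (range_split (range_split (range_split (range_split (range_split (range_split (range_split (range_split (range_split (range_split (range_split (range_split (range_split (range_split (range_split (range_split (range_split (range_split (range_split (range_split (range_split (range_split (range_split (range_split (range_split (range_split (range_split (range_split (range_split (range_split (range_split (range_split (range_split (range_split (range_split (range_split (range_split (range_split (range_split (range_split (range_split (range_split (range_split (range_split (range_split (range_split (range_split (range_split (range_split (range_split (range_split (range_split (range_split (range_split (range_split (range_split (range_split (range_split (range_split (range_split (range_split (range_split (range_split (range_split (range_split (range_split (range_split (range_split (range_split (range_split (range_split (range_split (range_split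 (range_split (range_split (range_split (range_split (range_split (range_split (range_split (range_split (range_split (range_split (range_split (range_split (range_split (range_split (range_split (range_split (range_split (range_split (range_split (range_split (range_split (range_split (range_split (range_split (range_split (range_split (range_split (range_split (range_split (range_split (range_split (range_split (range_split (range_split (range_split (range_split (range_split (range_split (range_split (range_split (range_split (range_split (range_split (range_split (range_split (range_split (range_split (range_split (range_split (range_split (range_split (range_split (range_split (range_split (range_split (range_split (range_split (range_split (range_split (range_split (range_split (range_split (range_split (range_split (keysOK_spec certH_keys0) (keysOK_spec certH_keys1)) (keysOK_spec certH_keys2)) (keysOK_spec certH_keys3)) (keysOK_spec certH_keys4)) (keysOK_spec certH_keys5)) (keysOK_spec certH_keys6)) (keysOK_spec certH_keys7)) (keysOK_spec certH_keys8)) (keysOK_spec certH_keys9)) (keysOK_spec certH_keys10)) (keysOK_spec certH_keys11)) (keysOK_spec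 certH_keys12)) (keysOK_spec certH_keys13)) (keysOK_spec certH_keys14)) (keysOK_spec certH_keys15)) (keysOK_spec certH_keys16)) (keysOK_spec certH_keys17)) (keysOK_spec certH_keys18)) (keysOK_spec certH_keys19)) (keysOK_spec certH_keys20)) (keysOK_spec certH_keys21)) (keysOK_spec certH_keys22)) (keysOK_spec certH_keys23)) (keysOK_spec certH_keys24)) (keysOK_spec certH_keys25)) (keysOK_spec certH_keys26)) (keysOK_spec certH_keys27)) (keysOK_spec certH_keys28)) (keysOK_spec certH_keys29)) (keysOK_spec certH_keys30)) (keysOK_spec certH_keys31)) (keysOK_spec certH_keys32)) (keysOK_spec certH_keys33)) (keysOK_spec certH_keys34)) (keysOK_spec certH_keys35)) (keysOK_spec certH_keys36)) (keysOK_spec certH_keys37)) (keysOK_spec certH_keys38)) (keysOK_spec certH_keys39)) (keysOK_spec certH_keys40)) (keysOK_spec certH_keys41)) (keysOK_spec certH_keys42)) (keysOK_spec certH_keys43)) (keysOK_spec certH_keys44)) (keysOK_spec certH_keys45)) (keysOK_spec certH_keys46)) (keysOK_spec certH_keys47)) (keysOK_spec certH_keys48)) (keysOK_spec certH_keys49)) (keysOK_spec certH_keys50)) (keysOK_spec certH_keys51)) (keysOK_spec certH_keys52)) (keysOK_spec certH_keys53)) (keysOK_spec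 certH_keys54)) (keysOK_spec certH_keys55)) (keysOK_spec certH_keys56)) (keysOK_spec certH_keys57)) (keysOK_spec certH_keys58)) (keysOK_spec certH_keys59)) (keysOK_spec certH_keys60)) (keysOK_spec certH_keys61)) (keysOK_spec certH_keys62)) (keysOK_spec certH_keys63)) (keysOK_spec certH_keys64)) (keysOK_spec certH_keys65)) (keysOK_spec certH_keys66)) (keysOK_spec certH_keys67)) (keysOK_spec certH_keys68)) (keysOK_spec certH_keys69)) (keysOK_spec certH_keys70)) (keysOK_spec certH_keys71)) (keysOK_spec certH_keys72)) (keysOK_spec certH_keys73)) (keysOK_spec certH_keys74)) (keysOK_spec certH_keys75)) (keysOK_spec certH_keys76)) (keysOK_spec certH_keys77)) (keysOK_spec certH_keys78)) (keysOK_spec certH_keys79)) (keysOK_spec certH_keys80)) (keysOK_spec certH_keys81)) (keysOK_spec certH_keys82)) (keysOK_spec certH_keys83)) (keysOK_spec certH_keys84)) (keysOK_spec certH_keys85)) (keysOK_spec certH_keys86)) (keysOK_spec certH_keys87)) (keysOK_spec certH_keys88)) (keysOK_spec certH_keys89)) (keysOK_spec certH_keys90)) (keysOK_spec certH_keys91)) (keysOK_spec certH_keys92)) (keysOK_spec certH_keys93)) (keysOK_spec certH_keys94)) (keysOK_spec certH_keys95)) (keysOK_spec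 certH_keys96)) (keysOK_spec certH_keys97)) (keysOK_spec certH_keys98)) (keysOK_spec certH_keys99)) (keysOK_spec certH_keys100)) (keysOK_spec certH_keys101)) (keysOK_spec certH_keys102)) (keysOK_spec certH_keys103)) (keysOK_spec certH_keys104)) (keysOK_spec certH_keys105)) (keysOK_spec certH_keys106)) (keysOK_spec certH_keys107)) (keysOK_spec certH_keys108)) (keysOK_spec certH_keys109)) (keysOK_spec certH_keys110)) (keysOK_spec certH_keys111)) (keysOK_spec certH_keys112)) (keysOK_spec certH_keys113)) (keysOK_spec certH_keys114)) (keysOK_spec certH_keys115)) (keysOK_spec certH_keys116)) (keysOK_spec certH_keys117)) (keysOK_spec certH_keys118)) (keysOK_spec certH_keys119)) (keysOK_spec certH_keys120)) (keysOK_spec certH_keys121)) (keysOK_spec certH_keys122)) (keysOK_spec certH_keys123)) (keysOK_spec certH_keys124)) (keysOK_spec certH_keys125)) (keysOK_spec certH_keys126)) (keysOK_spec certH_keys127)) (keysOK_spec certH_keys128)) (keysOK_spec certH_keys129)) (keysOK_spec certH_keys130)) (keysOK_spec certH_keys131)) (keysOK_spec certH_keys132)) (keysOK_spec certH_keys133)) (keysOK_spec certH_keys134)) (keysOK_spec certH_keys135)) (keysOK_spec certH_keys136))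 (keysOK_spec certH_keys137)) (keysOK_spec certH_keys138)) (keysOK_spec certH_keys139)) (keysOK_spec certH_keys140)) (keysOK_spec certH_keys141)) (keysOK_spec certH_keys142)) (keysOK_spec certH_keys143)) k (Nat.zero_le _) hk)
    (fun u hu => ⟨400673, (range_split (range_split (range_split (range_split (range_split (range_split (range_split (range_split (range_split (range_split (range_split (range_split (range_split (range_split (range_split (closedFrom_spec certH_closed0) (closedFrom_spec certH_closed1)) (closedFrom_spec certH_closed2)) (closedFrom_spec certH_closed3)) (closedFrom_spec certH_closed4)) (closedFrom_spec certH_closed5)) (closedFrom_spec certH_closed6)) (closedFrom_spec certH_closed7)) (closedFrom_spec certH_closed8)) (closedFrom_spec certH_closed9)) (closedFrom_spec certH_closed10)) (closedFrom_spec certH_closed11)) (closedFrom_spec certH_closed12)) (closedFrom_spec certH_closed13)) (closedFrom_spec certH_closed14)) (closedFrom_spec certH_closed15)) u (Nat.zero_le _) hu⟩)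
    (by decide +kernel) (by decide +kernel)

end CfsgLib.Sporadic.CosetCert.Fi23Data
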