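import Cfsg.Agent.Lib.Sporadic.Fi23Data.Fi23CertOCheck0
import Cfsg.Agent.Lib.Sporadic.Fi23Data.Fi23CertOData

/-!
# Coset enumeration certificate Fi23Data.certO, checks 1

Machine-generated data and the kernel checks on it.
-/

set_option maxRecDepth 100000

namespace CfsgLib.Sporadic.CosetCert.Fi23Data

theorem certO_keys8 : certO.keysOK 32000 4000 = true := by decide +kernel
theorem certO_keys9 : certO.keysOK 36000 4000 = true := by decide +kernel
theorem certO_keys10 : certO.keysOK 40000 4000 = true := by decide +kernel
theorem certO_keys11 : certO.keysOK 44000 4000 = true := by decide +kernel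
theorem certO_keys12 : certO.keysOK 48000 4000 = true := by decide +kernel
theorem certO_keys13 : certO.keysOK 52000 4000 = true := by decide +kernel
theorem certO_keys14 : certO.keysOK 56000 4000 = true := by decide +kernel
theorem certO_keys15 : certO.keysOK 60000 4000 = true := by decide +kernel

end CfsgLib.Sporadic.CosetCert.Fi23Data
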