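import Cfsg.Agent.Lib.Sporadic.Fi23Data.Fi23CertOCheck1
import Cfsg.Agent.Lib.Sporadic.Fi23Data.Fi23CertOData

/-!
# Coset enumeration certificate Fi23Data.certO, checks 2

Machine-generated data and the kernel checks on it.
-/

set_option maxRecDepth 100000

namespace CfsgLib.Sporadic.CosetCert.Fi23Data

theorem certO_keys16 : certO.keysOK 64000 4000 = true := by decide +kernel
theorem certO_keys17 : certO.keysOK 68000 4000 = true := by decide +kernel
theorem certO_keys18 : certO.keysOK 72000 4000 = true := by decide +kernel
theorem certO_keys19 : certO.keysOK 76000 4000 = true := by decide +kernel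
theorem certO_keys20 : certO.keysOK 80000 4000 = true := by decide +kernel
theorem certO_keys21 : certO.keysOK 84000 4000 = true := by decide +kernel
theorem certO_keys22 : certO.keysOK 88000 4000 = true := by decide +kernel
theorem certO_keys23 : certO.keysOK 92000 4000 = true := by decide +kernel

end CfsgLib.Sporadic.CosetCert.Fi23Data
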