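import Cfsg.Agent.Lib.Sporadic.Fi23Data.Fi23CertOCheck3
import Cfsg.Agent.Lib.Sporadic.Fi23Data.Fi23CertOData

/-!
# Coset enumeration certificate Fi23Data.certO, checks 4

Machine-generated data and the kernel checks on it.
-/

set_option maxRecDepth 100000

namespace CfsgLib.Sporadic.CosetCert.Fi23Data

theorem certO_keys32 : certO.keysOK 128000 4000 = true := by decide +kernel
theorem certO_keys33 : certO.keysOK 132000 4000 = true := by decide +kernel
theorem certO_keys34 : certO.keysOK 136000 4000 = true := by decide +kernel
theorem certO_keys35 : certO.keysOK 140000 4000 = true := by decide +kernel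
theorem certO_keys36 : certO.keysOK 144000 4000 = true := by decide +kernel
theorem certO_keys37 : certO.keysOK 148000 4000 = true := by decide +kernel
theorem certO_keys38 : certO.keysOK 152000 4000 = true := by decide +kernel
theorem certO_keys39 : certO.keysOK 156000 330 = true := by decide +kernel

end CfsgLib.Sporadic.CosetCert.Fi23Data
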