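import Cfsg.Agent.Lib.Sporadic.Fi23Data.Fi23CertOCheck4
import Cfsg.Agent.Lib.Sporadic.Fi23Data.Fi23CertOData

/-!
# Coset enumeration certificate Fi23Data.certO, checks 5

Machine-generated data and the kernel checks on it.
-/

set_option maxRecDepth 100000

namespace CfsgLib.Sporadic.CosetCert.Fi23Data

theorem certO_closed0 : certO.closedFrom 132751 0 2000 = true := by decide +kernel
theorem certO_closed1 : certO.closedFrom 132751 2000 2000 = true := by decide +kernel
theorem certO_closed2 : certO.closedFrom 132751 4000 2000 = true := by decide +kernel
theorem certO_closed3 : certO.closedFrom 132751 6000 2000 = true := by decide +kernel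
theorem certO_closed4 : certO.closedFrom 132751 8000 2000 = true := by decide +kernel
theorem certO_closed5 : certO.closedFrom 132751 10000 2000 = true := by decide +kernel
theorem certO_closed6 : certO.closedFrom 132751 12000 2000 = true := by decide +kernel
theorem certO_closed7 : certO.closedFrom 132751 14000 80 = true := by decide +kernel

end CfsgLib.Sporadic.CosetCert.Fi23Data
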