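import Cfsg.Agent.Lib.Sporadic.Fi23Data.Fi23CertO1Check1
import Cfsg.Agent.Lib.Sporadic.Fi23Data.Fi23CertO1Data

/-!
# Coset enumeration certificate Fi23Data.certO1, checks 2

Machine-generated data and the kernel checks on it.
-/

set_option maxRecDepth 100000

namespace CfsgLib.Sporadic.CosetCert.Fi23Data

theorem certO1_keys16 : certO1.keysOK 64000 4000 = true := by decide +kernel
theorem certO1_keys17 : certO1.keysOK 68000 4000 = true := by decide +kernel
theorem certO1_keys18 : certO1.keysOK 72000 4000 = true := by decide +kernel
theorem certO1_keys19 : certO1.keysOK 76000 4000 = true := by decide +kernel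
theorem certO1_keys20 : certO1.keysOK 80000 4000 = true := by decide +kernel
theorem certO1_keys21 : certO1.keysOK 84000 4000 = true := by decide +kernel
theorem certO1_keys22 : certO1.keysOK 88000 4000 = true := by decide +kernel
theorem certO1_keys23 : certO1.keysOK 92000 4000 = true := by decide +kernel

end CfsgLib.Sporadic.CosetCert.Fi23Data
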