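import Cfsg.Agent.Lib.Sporadic.Fi23Data.Fi23CertO1Check4
import Cfsg.Agent.Lib.Sporadic.Fi23Data.Fi23CertO1Data

/-!
# Coset enumeration certificate Fi23Data.certO1, checks 5

Machine-generated data and the kernel checks on it.
-/

set_option maxRecDepth 100000

namespace CfsgLib.Sporadic.CosetCert.Fi23Data

theorem certO1_keys40 : certO1.keysOK 160000 4000 = true := by decide +kernel
theorem certO1_keys41 : certO1.keysOK 164000 4000 = true := by decide +kernel
theorem certO1_keys42 : certO1.keysOK 168000 4000 = true := by decide +kernel
theorem certO1_keys43 : certO1.keysOK 172000 1529 = true := by decide +kernel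
theorem certO1_closed0 : certO1.closedFrom 90393 0 2000 = true := by decide +kernel
theorem certO1_closed1 : certO1.closedFrom 90393 2000 1159 = true := by decide +kernel

end CfsgLib.Sporadic.CosetCert.Fi23Data
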