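import Cfsg.Agent.Lib.Sporadic.Fi23Data.Fi23CertTCheck0
import Cfsg.Agent.Lib.Sporadic.Fi23Data.Fi23CertTData

/-!
# Coset enumeration certificate Fi23Data.certT, checks 1

Machine-generated data and the kernel checks on it.
-/

set_option maxRecDepth 100000

namespace CfsgLib.Sporadic.CosetCert.Fi23Data

theorem certT_keys8 : certT.keysOK 32000 4000 = true := by decide +kernel
theorem certT_keys9 : certT.keysOK 36000 4000 = true := by decide +kernel
theorem certT_keys10 : certT.keysOK 40000 4000 = true := by decide +kernel
theorem certT_keys11 : certT.keysOK 44000 4000 = true := by decide +kernel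
theorem certT_keys12 : certT.keysOK 48000 4000 = true := by decide +kernel
theorem certT_keys13 : certT.keysOK 52000 4000 = true := by decide +kernel
theorem certT_keys14 : certT.keysOK 56000 4000 = true := by decide +kernel
theorem certT_keys15 : certT.keysOK 60000 4000 = true := by decide +kernel

end CfsgLib.Sporadic.CosetCert.Fi23Data
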