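import Cfsg.Agent.Lib.Sporadic.Fi23Data.Fi23CertTCheck2
import Cfsg.Agent.Lib.Sporadic.Fi23Data.Fi23CertTData

/-!
# Coset enumeration certificate Fi23Data.certT, checks 3

Machine-generated data and the kernel checks on it.
-/

set_option maxRecDepth 100000

namespace CfsgLib.Sporadic.CosetCert.Fi23Data

theorem certT_keys24 : certT.keysOK 96000 4000 = true := by decide +kernel
theorem certT_keys25 : certT.keysOK 100000 4000 = true := by decide +kernel
theorem certT_keys26 : certT.keysOK 104000 4000 = true := by decide +kernel
theorem certT_keys27 : certT.keysOK 108000 4000 = true := by decide +kernel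
theorem certT_keys28 : certT.keysOK 112000 4000 = true := by decide +kernel
theorem certT_keys29 : certT.keysOK 116000 4000 = true := by decide +kernel
theorem certT_keys30 : certT.keysOK 120000 4000 = true := by decide +kernel
theorem certT_keys31 : certT.keysOK 124000 4000 = true := by decide +kernel

end CfsgLib.Sporadic.CosetCert.Fi23Data
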