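import Cfsg.Agent.Lib.Sporadic.Fi23Data.Fi23CertTCheck0
import Cfsg.Agent.Lib.Sporadic.Fi23Data.Fi23CertTCheck1
import Cfsg.Agent.Lib.Sporadic.Fi23Data.Fi23CertTCheck2
import Cfsg.Agent.Lib.Sporadic.Fi23Data.Fi23CertTCheck3
import Cfsg.Agent.Lib.Sporadic.Fi23Data.Fi23CertTCheck4

/-!
# Coset enumeration certificate Fi23Data.certT

Machine-generated data and the kernel checks on it.
-/

set_option maxRecDepth 100000

namespace CfsgLib.Sporadic.CosetCert.Fi23Data


theorem certT_valid : certT.Valid :=
  valid_of
    (fun k hk => (range_split (range_split (range_split (range_split (range_split (range_split (range_split (range_split (range_split (range_split (range_split (range_split (range_split (range_split (range_split (range_split (range_split (range_split (range_split (range_split (range_split (range_split (range_split (range_split (range_split (range_split (range_split (range_split (range_split (range_split (range_split (range_split (range_split (range_split (range_split (range_split (range_split (range_split (keysOK_spec certT_keys0) (keysOK_spec certT_keys1)) (keysOK_spec certT_keys2)) (keysOK_spec certT_keys3)) (keysOK_spec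 certT_keys4)) (keysOK_spec certT_keys5)) (keysOK_spec certT_keys6)) (keysOK_spec certT_keys7)) (keysOK_spec certT_keys8)) (keysOK_spec certT_keys9)) (keysOK_spec certT_keys10)) (keysOK_spec certT_keys11)) (keysOK_spec certT_keys12)) (keysOK_spec certT_keys13)) (keysOK_spec certT_keys14)) (keysOK_spec certT_keys15)) (keysOK_spec certT_keys16)) (keysOK_spec certT_keys17)) (keysOK_spec certT_keys18)) (keysOK_spec certT_keys19)) (keysOK_spec certT_keys20)) (keysOK_spec certT_keys21)) (keysOK_spec certT_keys22)) (keysOK_spec certT_keys23)) (keysOK_spec certT_keys24)) (keysOK_spec certT_keys25)) (keysOK_spec certT_keys26)) (keysOK_spec certT_keys27)) (keysOK_spec certT_keys28)) (keysOK_spec certT_keys29)) (keysOK_spec certT_keys30)) (keysOK_spec certT_keys31)) (keysOK_spec certT_keys32)) (keysOK_spec certT_keys33)) (keysOK_spec certT_keys34)) (keysOK_spec certT_keys35)) (keysOK_spec certT_keys36)) (keysOK_spec certT_keys37)) (keysOK_spec certT_keys38)) k (Nat.zero_le _) hk)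
    (fun u hu => ⟨60214, (closedFrom_spec certT_closed0) u (Nat.zero_le _) hu⟩)
    (by decide +kernel) (by decide +kernel)

end CfsgLib.Sporadic.CosetCert.Fi23Data
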