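import Cfsg.Agent.Lib.Sporadic.Fi23Data.Fi23CertHCheck8
import Cfsg.Agent.Lib.Sporadic.Fi23Data.Fi23CertHData

/-!
# Coset enumeration certificate Fi23Data.certH, checks 10

Machine-generated data and the kernel checks on it.
-/

set_option maxRecDepth 100000

namespace CfsgLib.Sporadic.CosetCert.Fi23Data

theorem certH_keys80 : certH.keysOK 320000 4000 = true := by decide +kernel
theorem certH_keys81 : certH.keysOK 324000 4000 = true := by decide +kernel
theorem certH_keys82 : certH.keysOK 328000 4000 = true := by decide +kernel
theorem certH_keys83 : certH.keysOK 332000 4000 = true := by decide +kernel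
theorem certH_keys84 : certH.keysOK 336000 4000 = true := by decide +kernel
theorem certH_keys85 : certH.keysOK 340000 4000 = true := by decide +kernel
theorem certH_keys86 : certH.keysOK 344000 4000 = true := by decide +kernel
theorem certH_keys87 : certH.keysOK 348000 4000 = true := by decide +kernel

end CfsgLib.Sporadic.CosetCert.Fi23Data
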