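import Cfsg.Agent.Lib.Sporadic.Fi23Data.Fi23CertTData

/-!
# Coset enumeration certificate Fi23Data.certT, checks 0

Machine-generated data and the kernel checks on it.
-/

set_option maxRecDepth 100000

namespace CfsgLib.Sporadic.CosetCert.Fi23Data

theorem certT_keys0 : certT.keysOK 0 4000 = true := by decide +kernel
theorem certT_keys1 : certT.keysOK 4000 4000 = true := by decide +kernel
theorem certT_keys2 : certT.keysOK 8000 4000 = true := by decide +kernel
theorem certT_keys3 : certT.keysOK 12000 4000 = true := by decide +kernel
theorem certT_keys4 : certT.keysOK 16000 4000 = true := by decide +kernel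
theorem certT_keys5 : certT.keysOK 20000 4000 = true := by decide +kernel
theorem certT_keys6 : certT.keysOK 24000 4000 = true := by decide +kernel
theorem certT_keys7 : certT.keysOK 28000 4000 = true := by decide +kernel

end CfsgLib.Sporadic.CosetCert.Fi23Data
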