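import Cfsg.Agent.Lib.Sporadic.Fi23Data.Fi23FastChecks

/-!
# Relators act trivially, part 1

Machine-generated data and the kernel checks on it.
-/

set_option maxRecDepth 100000

namespace CfsgLib.Sporadic.CosetCert.Fi23Data

theorem table_word14_0 : PTab.fixL [fast5, fast1, fast5, fast1] 0 16000 = true := by decide +kernel
theorem table_word14_1 : PTab.fixL [fast5, fast1, fast5, fast1] 16000 15671 = true := by decide +kernel
theorem table_word15_0 : PTab.fixL [fast6, fast1, fast6, fast1] 0 16000 = true := by decide +kernel
theorem table_word15_1 : PTab.fixL [fast6, fast1, fast6, fast1] 16000 15671 = true := by decide +kernel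
theorem table_word16_0 : PTab.fixL [fast7, fast1, fast7, fast1] 0 16000 = true := by decide +kernel
theorem table_word16_1 : PTab.fixL [fast7, fast1, fast7, fast1] 16000 15671 = true := by decide +kernel
theorem table_word17_0 : PTab.fixL [fast8, fast1, fast8, fast1] 0 16000 = true := by decide +kernel
theorem table_word17_1 : PTab.fixL [fast8, fast1, fast8, fast1] 16000 15671 = true := by decide +kernel
theorem table_word18_0 : PTab.fixL [fast9, fast1, fast9, fast1] 0 16000 = true := by decide +kernel
theorem table_word18_1 : PTab.fixL [fast9, fast1, fast9, fast1] 16000 15671 = true := by decide +kernel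
theorem table_word19_0 : PTab.fixL [fast2, fast2] 0 16000 = true := by decide +kernel
theorem table_word19_1 : PTab.fixL [fast2, fast2] 16000 15671 = true := by decide +kernel
theorem table_word20_0 : PTab.fixL [fast3, fast2, fast3, fast2, fast3, fast2] 0 16000 = true := by decide +kernel
theorem table_word20_1 : PTab.fixL [fast3, fast2, fast3, fast2, fast3, fast2] 16000 15671 = true := by decide +kernel
theorem table_word21_0 : PTab.fixL [fast4, fast2, fast4, fast2] 0 16000 = true := by decide +kernel
theorem table_word21_1 : PTab.fixL [fast4, fast2, fast4, fast2] 16000 15671 = true := by decide +kernel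
theorem table_word22_0 : PTab.fixL [fast5, fast2, fast5, fast2] 0 16000 = true := by decide +kernel
theorem table_word22_1 : PTab.fixL [fast5, fast2, fast5, fast2] 16000 15671 = true := by decide +kernel
theorem table_word23_0 : PTab.fixL [fast6, fast2, fast6, fast2] 0 16000 = true := by decide +kernel
theorem table_word23_1 : PTab.fixL [fast6, fast2, fast6, fast2] 16000 15671 = true := by decide +kernel
theorem table_word24_0 : PTab.fixL [fast7, fast2, fast7, fast2] 0 16000 = true := by decide +kernel
theorem table_word24_1 : PTab.fixL [fast7, fast2, fast7, fast2] 16000 15671 = true := by decide +kernel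
theorem table_word25_0 : PTab.fixL [fast8, fast2, fast8, fast2] 0 16000 = true := by decide +kernel
theorem table_word25_1 : PTab.fixL [fast8, fast2, fast8, fast2] 16000 15671 = true := by decide +kernel
theorem table_word26_0 : PTab.fixL [fast9, fast2, fast9, fast2] 0 16000 = true := by decide +kernel
theorem table_word26_1 : PTab.fixL [fast9, fast2, fast9, fast2] 16000 15671 = true := by decide +kernel
theorem table_word27_0 : PTab.fixL [fast3, fast3] 0 16000 = true := by decide +kernel
theorem table_word27_1 : PTab.fixL [fast3, fast3] 16000 15671 = true := by decide +kernel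

end CfsgLib.Sporadic.CosetCert.Fi23Data
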