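import Cfsg.Agent.Lib.Sporadic.Fi23Data.Fi23FastChecks

/-!
# Relators act trivially, part 2

Machine-generated data and the kernel checks on it.
-/

set_option maxRecDepth 100000

namespace CfsgLib.Sporadic.CosetCert.Fi23Data

theorem table_word28_0 : PTab.fixL [fast4, fast3, fast4, fast3, fast4, fast3] 0 16000 = true := by decide +kernel
theorem table_word28_1 : PTab.fixL [fast4, fast3, fast4, fast3, fast4, fast3] 16000 15671 = true := by decide +kernel
theorem table_word29_0 : PTab.fixL [fast5, fast3, fast5, fast3] 0 16000 = true := by decide +kernel
theorem table_word29_1 : PTab.fixL [fast5, fast3, fast5, fast3] 16000 15671 = true := by decide +kernel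
theorem table_word30_0 : PTab.fixL [fast6, fast3, fast6, fast3] 0 16000 = true := by decide +kernel
theorem table_word30_1 : PTab.fixL [fast6, fast3, fast6, fast3] 16000 15671 = true := by decide +kernel
theorem table_word31_0 : PTab.fixL [fast7, fast3, fast7, fast3] 0 16000 = true := by decide +kernel
theorem table_word31_1 : PTab.fixL [fast7, fast3, fast7, fast3] 16000 15671 = true := by decide +kernel
theorem table_word32_0 : PTab.fixL [fast8, fast3, fast8, fast3, fast8, fast3] 0 16000 = true := by decide +kernel
theorem table_word32_1 : PTab.fixL [fast8, fast3, fast8, fast3, fast8, fast3] 16000 15671 = true := by decide +kernel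
theorem table_word33_0 : PTab.fixL [fast9, fast3, fast9, fast3] 0 16000 = true := by decide +kernel
theorem table_word33_1 : PTab.fixL [fast9, fast3, fast9, fast3] 16000 15671 = true := by decide +kernel
theorem table_word34_0 : PTab.fixL [fast4, fast4] 0 16000 = true := by decide +kernel
theorem table_word34_1 : PTab.fixL [fast4, fast4] 16000 15671 = true := by decide +kernel
theorem table_word35_0 : PTab.fixL [fast5, fast4, fast5, fast4, fast5, fast4] 0 16000 = true := by decide +kernel
theorem table_word35_1 : PTab.fixL [fast5, fast4, fast5, fast4, fast5, fast4] 16000 15671 = true := by decide +kernel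
theorem table_word36_0 : PTab.fixL [fast6, fast4, fast6, fast4] 0 16000 = true := by decide +kernel
theorem table_word36_1 : PTab.fixL [fast6, fast4, fast6, fast4] 16000 15671 = true := by decide +kernel
theorem table_word37_0 : PTab.fixL [fast7, fast4, fast7, fast4] 0 16000 = true := by decide +kernel
theorem table_word37_1 : PTab.fixL [fast7, fast4, fast7, fast4] 16000 15671 = true := by decide +kernel
theorem table_word38_0 : PTab.fixL [fast8, fast4, fast8, fast4] 0 16000 = true := by decide +kernel
theorem table_word38_1 : PTab.fixL [fast8, fast4, fast8, fast4] 16000 15671 = true := by decide +kernel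
theorem table_word39_0 : PTab.fixL [fast9, fast4, fast9, fast4] 0 16000 = true := by decide +kernel
theorem table_word39_1 : PTab.fixL [fast9, fast4, fast9, fast4] 16000 15671 = true := by decide +kernel
theorem table_word40_0 : PTab.fixL [fast5, fast5] 0 16000 = true := by decide +kernel
theorem table_word40_1 : PTab.fixL [fast5, fast5] 16000 15671 = true := by decide +kernel
theorem table_word41_0 : PTab.fixL [fast6, fast5, fast6, fast5, fast6, fast5] 0 16000 = true := by decide +kernel
theorem table_word41_1 : PTab.fixL [fast6, fast5, fast6, fast5, fast6, fast5] 16000 15671 = true := by decide +kernel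

end CfsgLib.Sporadic.CosetCert.Fi23Data
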