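import Cfsg.Agent.Lib.Sporadic.Fi23Data.Fi23FastChecks

/-!
# Relators act trivially, part 3

Machine-generated data and the kernel checks on it.
-/

set_option maxRecDepth 100000

namespace CfsgLib.Sporadic.CosetCert.Fi23Data

theorem table_word42_0 : PTab.fixL [fast7, fast5, fast7, fast5] 0 16000 = true := by decide +kernel
theorem table_word42_1 : PTab.fixL [fast7, fast5, fast7, fast5] 16000 15671 = true := by decide +kernel
theorem table_word43_0 : PTab.fixL [fast8, fast5, fast8, fast5] 0 16000 = true := by decide +kernel
theorem table_word43_1 : PTab.fixL [fast8, fast5, fast8, fast5] 16000 15671 = true := by decide +kernel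
theorem table_word44_0 : PTab.fixL [fast9, fast5, fast9, fast5] 0 16000 = true := by decide +kernel
theorem table_word44_1 : PTab.fixL [fast9, fast5, fast9, fast5] 16000 15671 = true := by decide +kernel
theorem table_word45_0 : PTab.fixL [fast6, fast6] 0 16000 = true := by decide +kernel
theorem table_word45_1 : PTab.fixL [fast6, fast6] 16000 15671 = true := by decide +kernel
theorem table_word46_0 : PTab.fixL [fast7, fast6, fast7, fast6, fast7, fast6] 0 16000 = true := by decide +kernel
theorem table_word46_1 : PTab.fixL [fast7, fast6, fast7, fast6, fast7, fast6] 16000 15671 = true := by decide +kernel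
theorem table_word47_0 : PTab.fixL [fast8, fast6, fast8, fast6] 0 16000 = true := by decide +kernel
theorem table_word47_1 : PTab.fixL [fast8, fast6, fast8, fast6] 16000 15671 = true := by decide +kernel
theorem table_word48_0 : PTab.fixL [fast9, fast6, fast9, fast6] 0 16000 = true := by decide +kernel
theorem table_word48_1 : PTab.fixL [fast9, fast6, fast9, fast6] 16000 15671 = true := by decide +kernel
theorem table_word49_0 : PTab.fixL [fast7, fast7] 0 16000 = true := by decide +kernel
theorem table_word49_1 : PTab.fixL [fast7, fast7] 16000 15671 = true := by decide +kernel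
theorem table_word50_0 : PTab.fixL [fast8, fast7, fast8, fast7] 0 16000 = true := by decide +kernel
theorem table_word50_1 : PTab.fixL [fast8, fast7, fast8, fast7] 16000 15671 = true := by decide +kernel
theorem table_word51_0 : PTab.fixL [fast9, fast7, fast9, fast7] 0 16000 = true := by decide +kernel
theorem table_word51_1 : PTab.fixL [fast9, fast7, fast9, fast7] 16000 15671 = true := by decide +kernel
theorem table_word52_0 : PTab.fixL [fast8, fast8] 0 16000 = true := by decide +kernel
theorem table_word52_1 : PTab.fixL [fast8, fast8] 16000 15671 = true := by decide +kernel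
theorem table_word53_0 : PTab.fixL [fast9, fast8, fast9, fast8, fast9, fast8] 0 16000 = true := by decide +kernel
theorem table_word53_1 : PTab.fixL [fast9, fast8, fast9, fast8, fast9, fast8] 16000 15671 = true := by decide +kernel
theorem table_word54_0 : PTab.fixL [fast9, fast9] 0 16000 = true := by decide +kernel
theorem table_word54_1 : PTab.fixL [fast9, fast9] 16000 15671 = true := by decide +kernel

end CfsgLib.Sporadic.CosetCert.Fi23Data
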