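import Cfsg.Agent.Lib.Sporadic.Fi23Data.Fi23Words0
import Cfsg.Agent.Lib.Sporadic.Fi23Data.Fi23Words1
import Cfsg.Agent.Lib.Sporadic.Fi23Data.Fi23Words2
import Cfsg.Agent.Lib.Sporadic.Fi23Data.Fi23Words3
import Cfsg.Agent.Lib.Sporadic.Fi23Data.Fi23Periods
import Cfsg.Agent.Lib.Sporadic.Fi23Data.Fi23CertHData

/-!
# Relators act trivially

Machine-generated data and the kernel checks on it.
-/

set_option maxRecDepth 100000

namespace CfsgLib.Sporadic.CosetCert.Fi23Data

theorem table_word55 : PTab.fixL (List.replicate 10 prod55) 0 31671 = true := by decide +kernel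

theorem table_word56 : PTab.fixL (List.replicate 9 prod56) 0 31671 = true := by decide +kernel

/-- The unpacked relators. -/
def relLetters : List (List ℕ) :=
  [[0, 0], [1, 0, 1, 0, 1, 0], [2, 0, 2, 0], [3, 0, 3, 0], [4, 0, 4, 0], [5, 0, 5, 0], [6, 0, 6, 0], [7, 0, 7, 0], [8, 0, 8, 0], [9, 0, 9, 0], [1, 1], [2, 1, 2, 1, 2, 1], [3, 1, 3, 1], [4, 1, 4, 1], [5, 1, 5, 1], [6, 1, 6, 1], [7, 1, 7, 1], [8, 1, 8, 1], [9, 1, 9, 1], [2, 2], [3, 2, 3, 2, 3, 2], [4, 2, 4, 2], [5, 2, 5, 2], [6, 2, 6, 2], [7, 2, 7, 2], [8, 2, 8, 2], [9, 2, 9, 2], [3, 3], [4, 3, 4, 3, 4, 3], [5, 3, 5, 3], [6, 3, 6, 3], [7, 3, 7, 3], [8, 3, 8, 3, 8, 3], [9, 3, 9, 3], [4, 4], [5, 4, 5, 4, 5, 4], [6, 4, 6, 4], [7, 4, 7, 4], [8, 4, 8, 4], [9, 4, 9, 4], [5, 5], [6, 5, 6, 5, 6, 5], [7, 5, 7, 5], [8, 5, 8, 5], [9, 5, 9, 5], [6, 6], [7, 6, 7, 6, 7, 6], [8, 6, 8, 6], [9, 6, 9, 6], [7, 7], [8, 7, 8, 7], [9, 7, 9, 7], [8, 8], [9, 8, 9, 8, 9, 8], [9, 9]] ++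
    [(List.replicate 10 prod55Letters).flatten, (List.replicate 9 prod56Letters).flatten]

theorem relLetters_eq : ∀ i < certH.nr, PTab.unpack (certH.word i) = relLetters.getD i [] := by
  decide +kernel

theorem table_relators : ∀ i < certH.nr, ∀ u < table.N,
    table.run (certH.word i).1 (certH.word i).2 u = u := by
  intro i hi u hu
  rw [PTab.run_eq_imgW, relLetters_eq i hi]
  change i < 57 at hi
  have hu' : u < 31671 := hu
  match i, hi with
  | 0, _ => exact ((imgW_fast [0, 0] (by decide) u hu).1).trans ((range_split (PTab.fixL_spec table_word0_0) (PTab.fixL_spec table_word0_1)) u (Nat.zero_le _) hu')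
  | 1, _ => exact ((imgW_fast [1, 0, 1, 0, 1, 0] (by decide) u hu).1).trans ((range_split (PTab.fixL_spec table_word1_0) (PTab.fixL_spec table_word1_1)) u (Nat.zero_le _) hu')
  | 2, _ => exact ((imgW_fast [2, 0, 2, 0] (by decide) u hu).1).trans ((range_split (PTab.fixL_spec table_word2_0) (PTab.fixL_spec table_word2_1)) u (Nat.zero_le _) hu')
  | 3, _ => exact ((imgW_fast [3, 0, 3, 0] (by decide) u hu).1).trans ((range_split (PTab.fixL_spec table_word3_0) (PTab.fixL_spec table_word3_1)) u (Nat.zero_le _) hu')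
  | 4, _ => exact ((imgW_fast [4, 0, 4, 0] (by decide) u hu).1).trans ((range_split (PTab.fixL_spec table_word4_0) (PTab.fixL_spec table_word4_1)) u (Nat.zero_le _) hu')
  | 5, _ => exact ((imgW_fast [5, 0, 5, 0] (by decide) u hu).1).trans ((range_split (PTab.fixL_spec table_word5_0) (PTab.fixL_spec table_word5_1)) u (Nat.zero_le _) hu')
  | 6, _ => exact ((imgW_fast [6, 0, 6, 0] (by decide) u hu).1).trans ((range_split (PTab.fixL_spec table_word6_0) (PTab.fixL_spec table_word6_1)) u (Nat.zero_le _) hu')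
  | 7, _ => exact ((imgW_fast [7, 0, 7, 0] (by decide) u hu).1).trans ((range_split (PTab.fixL_spec table_word7_0) (PTab.fixL_spec table_word7_1)) u (Nat.zero_le _) hu')
  | 8, _ => exact ((imgW_fast [8, 0, 8, 0] (by decide) u hu).1).trans ((range_split (PTab.fixL_spec table_word8_0) (PTab.fixL_spec table_word8_1)) u (Nat.zero_le _) hu')
  | 9, _ => exact ((imgW_fast [9, 0, 9, 0] (by decide) u hu).1).trans ((range_split (PTab.fixL_spec table_word9_0) (PTab.fixL_spec table_word9_1)) u (Nat.zero_le _) hu')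
  | 10, _ => exact ((imgW_fast [1, 1] (by decide) u hu).1).trans ((range_split (PTab.fixL_spec table_word10_0) (PTab.fixL_spec table_word10_1)) u (Nat.zero_le _) hu')
  | 11, _ => exact ((imgW_fast [2, 1, 2, 1, 2, 1] (by decide) u hu).1).trans ((range_split (PTab.fixL_spec table_word11_0) (PTab.fixL_spec table_word11_1)) u (Nat.zero_le _) hu')
  | 12, _ => exact ((imgW_fast [3, 1, 3, 1] (by decide) u hu).1).trans ((range_split (PTab.fixL_spec table_word12_0) (PTab.fixL_spec table_word12_1)) u (Nat.zero_le _) hu')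
  | 13, _ => exact ((imgW_fast [4, 1, 4, 1] (by decide) u hu).1).trans ((range_split (PTab.fixL_spec table_word13_0) (PTab.fixL_spec table_word13_1)) u (Nat.zero_le _) hu')
  | 14, _ => exact ((imgW_fast [5, 1, 5, 1] (by decide) u hu).1).trans ((range_split (PTab.fixL_spec table_word14_0) (PTab.fixL_spec table_word14_1)) u (Nat.zero_le _) hu')
  | 15, _ => exact ((imgW_fast [6, 1, 6, 1] (by decide) u hu).1).trans ((range_split (PTab.fixL_spec table_word15_0) (PTab.fixL_spec table_word15_1)) u (Nat.zero_le _) hu')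
  | 16, _ => exact ((imgW_fast [7, 1, 7, 1] (by decide) u hu).1).trans ((range_split (PTab.fixL_spec table_word16_0) (PTab.fixL_spec table_word16_1)) u (Nat.zero_le _) hu')
  | 17, _ => exact ((imgW_fast [8, 1, 8, 1] (by decide) u hu).1).trans ((range_split (PTab.fixL_spec table_word17_0) (PTab.fixL_spec table_word17_1)) u (Nat.zero_le _) hu')
  | 18, _ => exact ((imgW_fast [9, 1, 9, 1] (by decide) u hu).1).trans ((range_split (PTab.fixL_spec table_word18_0) (PTab.fixL_spec table_word18_1)) u (Nat.zero_le _) hu')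
  | 19, _ => exact ((imgW_fast [2, 2] (by decide) u hu).1).trans ((range_split (PTab.fixL_spec table_word19_0) (PTab.fixL_spec table_word19_1)) u (Nat.zero_le _) hu')
  | 20, _ => exact ((imgW_fast [3, 2, 3, 2, 3, 2] (by decide) u hu).1).trans ((range_split (PTab.fixL_spec table_word20_0) (PTab.fixL_spec table_word20_1)) u (Nat.zero_le _) hu')
  | 21, _ => exact ((imgW_fast [4, 2, 4, 2] (by decide) u hu).1).trans ((range_split (PTab.fixL_spec table_word21_0) (PTab.fixL_spec table_word21_1)) u (Nat.zero_le _) hu')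
  | 22, _ => exact ((imgW_fast [5, 2, 5, 2] (by decide) u hu).1).trans ((range_split (PTab.fixL_spec table_word22_0) (PTab.fixL_spec table_word22_1)) u (Nat.zero_le _) hu')
  | 23, _ => exact ((imgW_fast [6, 2, 6, 2] (by decide) u hu).1).trans ((range_split (PTab.fixL_spec table_word23_0) (PTab.fixL_spec table_word23_1)) u (Nat.zero_le _) hu')
  | 24, _ => exact ((imgW_fast [7, 2, 7, 2] (by decide) u hu).1).trans ((range_split (PTab.fixL_spec table_word24_0) (PTab.fixL_spec table_word24_1)) u (Nat.zero_le _) hu')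
  | 25, _ => exact ((imgW_fast [8, 2, 8, 2] (by decide) u hu).1).trans ((range_split (PTab.fixL_spec table_word25_0) (PTab.fixL_spec table_word25_1)) u (Nat.zero_le _) hu')
  | 26, _ => exact ((imgW_fast [9, 2, 9, 2] (by decide) u hu).1).trans ((range_split (PTab.fixL_spec table_word26_0) (PTab.fixL_spec table_word26_1)) u (Nat.zero_le _) hu')
  | 27, _ => exact ((imgW_fast [3, 3] (by decide) u hu).1).trans ((range_split (PTab.fixL_spec table_word27_0) (PTab.fixL_spec table_word27_1)) u (Nat.zero_le _) hu')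
  | 28, _ => exact ((imgW_fast [4, 3, 4, 3, 4, 3] (by decide) u hu).1).trans ((range_split (PTab.fixL_spec table_word28_0) (PTab.fixL_spec table_word28_1)) u (Nat.zero_le _) hu')
  | 29, _ => exact ((imgW_fast [5, 3, 5, 3] (by decide) u hu).1).trans ((range_split (PTab.fixL_spec table_word29_0) (PTab.fixL_spec table_word29_1)) u (Nat.zero_le _) hu')
  | 30, _ => exact ((imgW_fast [6, 3, 6, 3] (by decide) u hu).1).trans ((range_split (PTab.fixL_spec table_word30_0) (PTab.fixL_spec table_word30_1)) u (Nat.zero_le _) hu')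
  | 31, _ => exact ((imgW_fast [7, 3, 7, 3] (by decide) u hu).1).trans ((range_split (PTab.fixL_spec table_word31_0) (PTab.fixL_spec table_word31_1)) u (Nat.zero_le _) hu')
  | 32, _ => exact ((imgW_fast [8, 3, 8, 3, 8, 3] (by decide) u hu).1).trans ((range_split (PTab.fixL_spec table_word32_0) (PTab.fixL_spec table_word32_1)) u (Nat.zero_le _) hu')
  | 33, _ => exact ((imgW_fast [9, 3, 9, 3] (by decide) u hu).1).trans ((range_split (PTab.fixL_spec table_word33_0) (PTab.fixL_spec table_word33_1)) u (Nat.zero_le _) hu')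
  | 34, _ => exact ((imgW_fast [4, 4] (by decide) u hu).1).trans ((range_split (PTab.fixL_spec table_word34_0) (PTab.fixL_spec table_word34_1)) u (Nat.zero_le _) hu')
  | 35, _ => exact ((imgW_fast [5, 4, 5, 4, 5, 4] (by decide) u hu).1).trans ((range_split (PTab.fixL_spec table_word35_0) (PTab.fixL_spec table_word35_1)) u (Nat.zero_le _) hu')
  | 36, _ => exact ((imgW_fast [6, 4, 6, 4] (by decide) u hu).1).trans ((range_split (PTab.fixL_spec table_word36_0) (PTab.fixL_spec table_word36_1)) u (Nat.zero_le _) hu')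
  | 37, _ => exact ((imgW_fast [7, 4, 7, 4] (by decide) u hu).1).trans ((range_split (PTab.fixL_spec table_word37_0) (PTab.fixL_spec table_word37_1)) u (Nat.zero_le _) hu')
  | 38, _ => exact ((imgW_fast [8, 4, 8, 4] (by decide) u hu).1).trans ((range_split (PTab.fixL_spec table_word38_0) (PTab.fixL_spec table_word38_1)) u (Nat.zero_le _) hu')
  | 39, _ => exact ((imgW_fast [9, 4, 9, 4] (by decide) u hu).1).trans ((range_split (PTab.fixL_spec table_word39_0) (PTab.fixL_spec table_word39_1)) u (Nat.zero_le _) hu')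
  | 40, _ => exact ((imgW_fast [5, 5] (by decide) u hu).1).trans ((range_split (PTab.fixL_spec table_word40_0) (PTab.fixL_spec table_word40_1)) u (Nat.zero_le _) hu')
  | 41, _ => exact ((imgW_fast [6, 5, 6, 5, 6, 5] (by decide) u hu).1).trans ((range_split (PTab.fixL_spec table_word41_0) (PTab.fixL_spec table_word41_1)) u (Nat.zero_le _) hu')
  | 42, _ => exact ((imgW_fast [7, 5, 7, 5] (by decide) u hu).1).trans ((range_split (PTab.fixL_spec table_word42_0) (PTab.fixL_spec table_word42_1)) u (Nat.zero_le _) hu')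
  | 43, _ => exact ((imgW_fast [8, 5, 8, 5] (by decide) u hu).1).trans ((range_split (PTab.fixL_spec table_word43_0) (PTab.fixL_spec table_word43_1)) u (Nat.zero_le _) hu')
  | 44, _ => exact ((imgW_fast [9, 5, 9, 5] (by decide) u hu).1).trans ((range_split (PTab.fixL_spec table_word44_0) (PTab.fixL_spec table_word44_1)) u (Nat.zero_le _) hu')
  | 45, _ => exact ((imgW_fast [6, 6] (by decide) u hu).1).trans ((range_split (PTab.fixL_spec table_word45_0) (PTab.fixL_spec table_word45_1)) u (Nat.zero_le _) hu')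
  | 46, _ => exact ((imgW_fast [7, 6, 7, 6, 7, 6] (by decide) u hu).1).trans ((range_split (PTab.fixL_spec table_word46_0) (PTab.fixL_spec table_word46_1)) u (Nat.zero_le _) hu')
  | 47, _ => exact ((imgW_fast [8, 6, 8, 6] (by decide) u hu).1).trans ((range_split (PTab.fixL_spec table_word47_0) (PTab.fixL_spec table_word47_1)) u (Nat.zero_le _) hu')
  | 48, _ => exact ((imgW_fast [9, 6, 9, 6] (by decide) u hu).1).trans ((range_split (PTab.fixL_spec table_word48_0) (PTab.fixL_spec table_word48_1)) u (Nat.zero_le _) hu')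
  | 49, _ => exact ((imgW_fast [7, 7] (by decide) u hu).1).trans ((range_split (PTab.fixL_spec table_word49_0) (PTab.fixL_spec table_word49_1)) u (Nat.zero_le _) hu')
  | 50, _ => exact ((imgW_fast [8, 7, 8, 7] (by decide) u hu).1).trans ((range_split (PTab.fixL_spec table_word50_0) (PTab.fixL_spec table_word50_1)) u (Nat.zero_le _) hu')
  | 51, _ => exact ((imgW_fast [9, 7, 9, 7] (by decide) u hu).1).trans ((range_split (PTab.fixL_spec table_word51_0) (PTab.fixL_spec table_word51_1)) u (Nat.zero_le _) hu')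
  | 52, _ => exact ((imgW_fast [8, 8] (by decide) u hu).1).trans ((range_split (PTab.fixL_spec table_word52_0) (PTab.fixL_spec table_word52_1)) u (Nat.zero_le _) hu')
  | 53, _ => exact ((imgW_fast [9, 8, 9, 8, 9, 8] (by decide) u hu).1).trans ((range_split (PTab.fixL_spec table_word53_0) (PTab.fixL_spec table_word53_1)) u (Nat.zero_le _) hu')
  | 54, _ => exact ((imgW_fast [9, 9] (by decide) u hu).1).trans ((range_split (PTab.fixL_spec table_word54_0) (PTab.fixL_spec table_word54_1)) u (Nat.zero_le _) hu')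
  | 55, _ => exact (PTab.imgW_pow prod55_eq 10 u hu).trans (PTab.fixL_spec table_word55 u (Nat.zero_le _) hu')
  | 56, _ => exact (PTab.imgW_pow prod56_eq 9 u hu).trans (PTab.fixL_spec table_word56 u (Nat.zero_le _) hu')
  | j + 57, h => exact absurd h (by omega)

end CfsgLib.Sporadic.CosetCert.Fi23Data
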