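import Cfsg.Agent.Lib.Sporadic.Fi23Data.Fi23FastChecks

/-!
# Checks on the table of Fi23

Machine-generated data and the kernel checks on it.
-/

set_option maxRecDepth 100000

namespace CfsgLib.Sporadic.CosetCert.Fi23Data

theorem table_sq0 : PTab.fixL [fast0, fast0] 0 31671 = true := by decide +kernel
theorem table_sq1 : PTab.fixL [fast1, fast1] 0 31671 = true := by decide +kernel
theorem table_sq2 : PTab.fixL [fast2, fast2] 0 31671 = true := by decide +kernel
theorem table_sq3 : PTab.fixL [fast3, fast3] 0 31671 = true := by decide +kernel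
theorem table_sq4 : PTab.fixL [fast4, fast4] 0 31671 = true := by decide +kernel
theorem table_sq5 : PTab.fixL [fast5, fast5] 0 31671 = true := by decide +kernel
theorem table_sq6 : PTab.fixL [fast6, fast6] 0 31671 = true := by decide +kernel
theorem table_sq7 : PTab.fixL [fast7, fast7] 0 31671 = true := by decide +kernel
theorem table_sq8 : PTab.fixL [fast8, fast8] 0 31671 = true := by decide +kernel
theorem table_sq9 : PTab.fixL [fast9, fast9] 0 31671 = true := by decide +kernel

theorem table_sq : ∀ x, x < 10 → ∀ u, u < 31671 →
    PTab.runL [fastRows.getD x id, fastRows.getD x id] u = u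
  | 0, _, u, hu => PTab.fixL_spec table_sq0 u (Nat.zero_le _) (lt_of_lt_of_eq hu (Nat.zero_add _).symm)
  | 1, _, u, hu => PTab.fixL_spec table_sq1 u (Nat.zero_le _) (lt_of_lt_of_eq hu (Nat.zero_add _).symm)
  | 2, _, u, hu => PTab.fixL_spec table_sq2 u (Nat.zero_le _) (lt_of_lt_of_eq hu (Nat.zero_add _).symm)
  | 3, _, u, hu => PTab.fixL_spec table_sq3 u (Nat.zero_le _) (lt_of_lt_of_eq hu (Nat.zero_add _).symm)
  | 4, _, u, hu => PTab.fixL_spec table_sq4 u (Nat.zero_le _) (lt_of_lt_of_eq hu (Nat.zero_add _).symm)
  | 5, _, u, hu => PTab.fixL_spec table_sq5 u (Nat.zero_le _) (lt_of_lt_of_eq hu (Nat.zero_add _).symm)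
  | 6, _, u, hu => PTab.fixL_spec table_sq6 u (Nat.zero_le _) (lt_of_lt_of_eq hu (Nat.zero_add _).symm)
  | 7, _, u, hu => PTab.fixL_spec table_sq7 u (Nat.zero_le _) (lt_of_lt_of_eq hu (Nat.zero_add _).symm)
  | 8, _, u, hu => PTab.fixL_spec table_sq8 u (Nat.zero_le _) (lt_of_lt_of_eq hu (Nat.zero_add _).symm)
  | 9, _, u, hu => PTab.fixL_spec table_sq9 u (Nat.zero_le _) (lt_of_lt_of_eq hu (Nat.zero_add _).symm)
  | n + 10, h, _, _ => absurd h (by omega)

theorem forestAll_edges0 : forestAll.edgesL table fastRows 0 8000 = true := by decide +kernel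
theorem forestAll_edges1 : forestAll.edgesL table fastRows 8000 8000 = true := by decide +kernel
theorem forestAll_edges2 : forestAll.edgesL table fastRows 16000 8000 = true := by decide +kernel
theorem forestAll_edges3 : forestAll.edgesL table fastRows 24000 7671 = true := by decide +kernel

theorem forestAll_edges : ∀ u, u < 31671 → forestAll.edgeAtL table fastRows u = true :=
  fun u hu => (range_split (range_split (range_split (Forest.edgesL_spec forestAll_edges0) (Forest.edgesL_spec forestAll_edges1)) (Forest.edgesL_spec forestAll_edges2)) (Forest.edgesL_spec forestAll_edges3)) u (Nat.zero_le _) hu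

theorem forestH_closed0 : forestH.closedL 31671 fast0 0 31671 = true := by decide +kernel
theorem forestH_closed1 : forestH.closedL 31671 fast1 0 31671 = true := by decide +kernel
theorem forestH_closed2 : forestH.closedL 31671 fast2 0 31671 = true := by decide +kernel
theorem forestH_closed3 : forestH.closedL 31671 fast3 0 31671 = true := by decide +kernel
theorem forestH_closed4 : forestH.closedL 31671 fast4 0 31671 = true := by decide +kernel
theorem forestH_closed5 : forestH.closedL 31671 fast5 0 31671 = true := by decide +kernel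
theorem forestH_closed6 : forestH.closedL 31671 fast6 0 31671 = true := by decide +kernel
theorem forestH_closed8 : forestH.closedL 31671 fast8 0 31671 = true := by decide +kernel
theorem forestH_closed9 : forestH.closedL 31671 fast9 0 31671 = true := by decide +kernel
theorem forestH_edges0 : forestH.edgesL table fastRows 0 8000 = true := by decide +kernel
theorem forestH_edges1 : forestH.edgesL table fastRows 8000 8000 = true := by decide +kernel
theorem forestH_edges2 : forestH.edgesL table fastRows 16000 8000 = true := by decide +kernel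
theorem forestH_edges3 : forestH.edgesL table fastRows 24000 7671 = true := by decide +kernel

theorem forestH_closed : ∀ r ∈ forestH.rows, ∀ u, u < 31671 →
    fastRows.getD r id u < 31671 ∧ forestH.cls (fastRows.getD r id u) = forestH.cls u := by
  intro r hr u hu
  have hr' : r ∈ ([0, 1, 2, 3, 4, 5, 6, 8, 9] : List ℕ) := hr
  simp only [List.mem_cons, List.not_mem_nil, or_false] at hr'
  rcases hr' with rfl | rfl | rfl | rfl | rfl | rfl | rfl | rfl | rfl
  · exact Forest.closedL_spec forestH_closed0 u (Nat.zero_le _) (lt_of_lt_of_eq hu (Nat.zero_add _).symm)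
  · exact Forest.closedL_spec forestH_closed1 u (Nat.zero_le _) (lt_of_lt_of_eq hu (Nat.zero_add _).symm)
  · exact Forest.closedL_spec forestH_closed2 u (Nat.zero_le _) (lt_of_lt_of_eq hu (Nat.zero_add _).symm)
  · exact Forest.closedL_spec forestH_closed3 u (Nat.zero_le _) (lt_of_lt_of_eq hu (Nat.zero_add _).symm)
  · exact Forest.closedL_spec forestH_closed4 u (Nat.zero_le _) (lt_of_lt_of_eq hu (Nat.zero_add _).symm)
  · exact Forest.closedL_spec forestH_closed5 u (Nat.zero_le _) (lt_of_lt_of_eq hu (Nat.zero_add _).symm)
  · exact Forest.closedL_spec forestH_closed6 u (Nat.zero_le _) (lt_of_lt_of_eq hu (Nat.zero_add _).symm)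
  · exact Forest.closedL_spec forestH_closed8 u (Nat.zero_le _) (lt_of_lt_of_eq hu (Nat.zero_add _).symm)
  · exact Forest.closedL_spec forestH_closed9 u (Nat.zero_le _) (lt_of_lt_of_eq hu (Nat.zero_add _).symm)

theorem forestH_edges : ∀ u, u < 31671 → forestH.edgeAtL table fastRows u = true :=
  fun u hu => (range_split (range_split (range_split (Forest.edgesL_spec forestH_edges0) (Forest.edgesL_spec forestH_edges1)) (Forest.edgesL_spec forestH_edges2)) (Forest.edgesL_spec forestH_edges3)) u (Nat.zero_le _) hu


theorem forestAll_cls : ∀ u, u < 31671 → forestAll.cls u = 0 := by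
  intro u hu
  have h := forestAll_edges u hu
  unfold Forest.edgeAtL at h
  simp only [Bool.and_eq_true, Nat.blt_eq] at h
  exact Nat.lt_one_iff.1 h.1

theorem forestAll_closed : ∀ r ∈ forestAll.rows, ∀ u, u < 31671 →
    fastRows.getD r id u < 31671 ∧ forestAll.cls (fastRows.getD r id u) = forestAll.cls u := by
  intro r hr u hu
  have hr' : r < table.nl := (show ∀ x ∈ forestAll.rows, x < table.nl by decide) r hr
  have h := (table_fast r hr' u hu).2
  exact ⟨h, (forestAll_cls _ h).trans (forestAll_cls u hu).symm⟩

theorem table_gen : ∀ u < table.N, ∀ x < table.nl,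
    table.inv x < table.nl ∧ table.img x u < table.N ∧ table.img (table.inv x) (table.img x u) = u := by
  intro u hu x hx
  have hinv : table.inv x = x := by
    have h : ∀ y < 10, table.inv y = y := by decide
    exact h x hx
  obtain ⟨e, hlt⟩ := table_fast x hx u hu
  have hsq : PTab.runL [fastRows.getD x id, fastRows.getD x id] u = u := table_sq x hx u hu
  rw [hinv, e]
  refine ⟨hx, hlt, ?_⟩
  rw [(table_fast x hx _ hlt).1]
  rw [PTab.runL_cons, PTab.runL_cons] at hsq
  exact hsq

theorem forestAll_ok : ∀ u < table.N, forestAll.pointOK table u = true :=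
  fun u hu => Forest.pointOK_of_fast table_fast (by decide) hu
    (fun r hr => forestAll_closed r hr u hu) (forestAll_edges u hu)

theorem forestH_ok : ∀ u < table.N, forestH.pointOK table u = true :=
  fun u hu => Forest.pointOK_of_fast table_fast (by decide) hu
    (fun r hr => forestH_closed r hr u hu) (forestH_edges u hu)

theorem forestH_count1 : forestH.count 1 31671 = 3510 := by decide +kernel

theorem forestH_count2 : forestH.count 2 31671 = 28160 := by decide +kernel

end CfsgLib.Sporadic.CosetCert.Fi23Data
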