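import Cfsg.Agent.Lib.Sporadic.Fi23Data.Fi23Periods

/-!
# The word of order 23

Machine-generated data and the kernel checks on it.
-/

set_option maxRecDepth 100000

namespace CfsgLib.Sporadic.CosetCert.Fi23Data

/-- The letters of the word of order 23. -/
def lettersT : List ℕ := [0, 0, 2, 9, 4, 7, 1, 5, 3, 0, 2, 2, 1, 3, 7, 7, 5, 5, 1, 3, 6, 4, 5, 0, 2, 4, 6, 0, 8, 6, 2, 4, 1, 2, 1, 3, 8]

theorem wordT_fix : PTab.fixL (List.replicate 23 prodT) 0 31671 = true := by decide +kernel

theorem wordT_ok (u : ℕ) (hu : u < table.N) :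
    (List.replicate (23 ^ 1) lettersT).flatten.foldl (fun w x => table.img x w) u = u :=
  (PTab.imgW_pow prodT_eq 23 u hu).trans (PTab.fixL_spec wordT_fix u (Nat.zero_le _) hu)

end CfsgLib.Sporadic.CosetCert.Fi23Data
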