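import Cfsg.Agent.Lib.Sporadic.Fi23Data.Fi23FastChecks

/-!
# Relators act trivially, part 0

Machine-generated data and the kernel checks on it.
-/

set_option maxRecDepth 100000

namespace CfsgLib.Sporadic.CosetCert.Fi23Data

theorem table_word0_0 : PTab.fixL [fast0, fast0] 0 16000 = true := by decide +kernel
theorem table_word0_1 : PTab.fixL [fast0, fast0] 16000 15671 = true := by decide +kernel
theorem table_word1_0 : PTab.fixL [fast1, fast0, fast1, fast0, fast1, fast0] 0 16000 = true := by decide +kernel
theorem table_word1_1 : PTab.fixL [fast1, fast0, fast1, fast0, fast1, fast0] 16000 15671 = true := by decide +kernel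
theorem table_word2_0 : PTab.fixL [fast2, fast0, fast2, fast0] 0 16000 = true := by decide +kernel
theorem table_word2_1 : PTab.fixL [fast2, fast0, fast2, fast0] 16000 15671 = true := by decide +kernel
theorem table_word3_0 : PTab.fixL [fast3, fast0, fast3, fast0] 0 16000 = true := by decide +kernel
theorem table_word3_1 : PTab.fixL [fast3, fast0, fast3, fast0] 16000 15671 = true := by decide +kernel
theorem table_word4_0 : PTab.fixL [fast4, fast0, fast4, fast0] 0 16000 = true := by decide +kernel
theorem table_word4_1 : PTab.fixL [fast4, fast0, fast4, fast0] 16000 15671 = true := by decide +kernel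
theorem table_word5_0 : PTab.fixL [fast5, fast0, fast5, fast0] 0 16000 = true := by decide +kernel
theorem table_word5_1 : PTab.fixL [fast5, fast0, fast5, fast0] 16000 15671 = true := by decide +kernel
theorem table_word6_0 : PTab.fixL [fast6, fast0, fast6, fast0] 0 16000 = true := by decide +kernel
theorem table_word6_1 : PTab.fixL [fast6, fast0, fast6, fast0] 16000 15671 = true := by decide +kernel
theorem table_word7_0 : PTab.fixL [fast7, fast0, fast7, fast0] 0 16000 = true := by decide +kernel
theorem table_word7_1 : PTab.fixL [fast7, fast0, fast7, fast0] 16000 15671 = true := by decide +kernel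
theorem table_word8_0 : PTab.fixL [fast8, fast0, fast8, fast0] 0 16000 = true := by decide +kernel
theorem table_word8_1 : PTab.fixL [fast8, fast0, fast8, fast0] 16000 15671 = true := by decide +kernel
theorem table_word9_0 : PTab.fixL [fast9, fast0, fast9, fast0] 0 16000 = true := by decide +kernel
theorem table_word9_1 : PTab.fixL [fast9, fast0, fast9, fast0] 16000 15671 = true := by decide +kernel
theorem table_word10_0 : PTab.fixL [fast1, fast1] 0 16000 = true := by decide +kernel
theorem table_word10_1 : PTab.fixL [fast1, fast1] 16000 15671 = true := by decide +kernel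
theorem table_word11_0 : PTab.fixL [fast2, fast1, fast2, fast1, fast2, fast1] 0 16000 = true := by decide +kernel
theorem table_word11_1 : PTab.fixL [fast2, fast1, fast2, fast1, fast2, fast1] 16000 15671 = true := by decide +kernel
theorem table_word12_0 : PTab.fixL [fast3, fast1, fast3, fast1] 0 16000 = true := by decide +kernel
theorem table_word12_1 : PTab.fixL [fast3, fast1, fast3, fast1] 16000 15671 = true := by decide +kernel
theorem table_word13_0 : PTab.fixL [fast4, fast1, fast4, fast1] 0 16000 = true := by decide +kernel
theorem table_word13_1 : PTab.fixL [fast4, fast1, fast4, fast1] 16000 15671 = true := by decide +kernel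

end CfsgLib.Sporadic.CosetCert.Fi23Data
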